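/-
Orthogonal representations: wreath products, direct products, the properties which propagate.
-/
import Mathlib
import Cfsg.Agent.Lib.OmegaSyl.Inv
import Cfsg.Agent.Lib.SpWreath.DetW

set_option autoImplicit false
set_option linter.all false

namespace Cfsg.Agent.Lib.OmegaSyl.Level

open Module Subgroup RegularWreathProduct
open Cfsg.Agent.Lib.Witt.Quadratic Cfsg.Agent.Lib.Orth.Refl Cfsg.Agent.Lib.Orth.Gen
  Cfsg.Agent.Lib.Orth.Spin Cfsg.Agent.Lib.Orth.Omega QuadraticMap Multiplicative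
open Cfsg.Agent.Lib.OmegaSyl.Real Cfsg.Agent.Lib.OmegaSyl.Inv
open Cfsg.Agent.Lib.SpWreath.NPow Cfsg.Agent.Lib.SpWreath.NRank Cfsg.Agent.Lib.SpWreath.DetW
open Cfsg.Agent.S4015

universe u

section rep

variable {F V : Type*} [Field F] [AddCommGroup V] [Module F V] {Q : QuadraticForm F V}

/-- A homomorphism to the isometry group from one to the endomorphisms. -/
def isoHom {G : Type*} [Group G] (L : G →* Module.End F V) (h : ∀ g v, Q (L g v) = Q v) : G →* isoGroup Q :=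
  MonoidHom.mk' (fun g => ⟨LinearEquiv.ofLinear (L g) (L g⁻¹)
      (by rw [← Module.End.mul_eq_comp, ← map_mul, mul_inv_cancel, map_one]; rfl)
      (by rw [← Module.End.mul_eq_comp, ← map_mul, inv_mul_cancel, map_one]; rfl), h g⟩)
    (fun a b => by
      apply Subtype.ext
      ext v
      change L (a * b) v = L a (L b v)
      rw [map_mul]
      rfl)

@[simp] lemma isoHom_apply {G : Type*} [Group G] (L : G →* Module.End F V) (h : ∀ g v, Q (L g v) = Q v) (g : G)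
    (v : V) : (isoHom L h g : V ≃ₗ[F] V) v = L g v := rfl

/-- Forget isometry. -/
def toEndH {D : Type*} [Group D] (ρ : D →* isoGroup Q) : D →* Module.End F V where
  toFun d := ((ρ d).1 : V →ₗ[F] V)
  map_one' := by
    rw [map_one]
    rfl
  map_mul' a b := by
    rw [map_mul]
    rfl

@[simp] lemma toEndH_apply {D : Type*} [Group D] (ρ : D →* isoGroup Q) (d : D) (v : V) :
    toEndH ρ d v = (ρ d).1 v := rfl

lemma toEndH_injective {D : Type*} [Group D] {ρ : D →* isoGroup Q} (h : Function.Injective ρ) :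
    Function.Injective (toEndH ρ) := by
  intro a b hab
  apply h
  apply Subtype.ext
  ext v
  exact congrArg (fun T : Module.End F V => T v) hab

variable {D : Type*} [Group D]

/-- The wreath product acting on `V × V`. -/
noncomputable def wEnd (ρ : D →* isoGroup Q) : D ≀ᵣ C2 →* Module.End F (V × V) :=
  ((e2 (F := F) (V := V)).conjRingEquiv.toRingHom.toMonoidHom).comp (wreathRep (Q := C2) (toEndH ρ))

lemma wEnd_bp (ρ : D →* isoGroup Q) (a b : D) (v : V × V) : wEnd ρ (bp a b) v = ((ρ a).1 v.1, (ρ b).1 v.2) := by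
  rcases v with ⟨x, y⟩
  change e2 (F := F) (V := V) (wreathRep (Q := C2) (toEndH ρ) (bp a b) ((e2 (F := F) (V := V)).symm (x, y))) = _
  apply Prod.ext
  · simp [e2, wreathRep_apply, bp]
  · simp [e2, wreathRep_apply, bp, s_ne]

lemma wEnd_yy (ρ : D →* isoGroup Q) (v : V × V) : wEnd ρ (yy : D ≀ᵣ C2) v = (v.2, v.1) := by
  rcases v with ⟨x, y⟩
  change e2 (F := F) (V := V) (wreathRep (Q := C2) (toEndH ρ) yy ((e2 (F := F) (V := V)).symm (x, y))) = _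
  have h1 : ((Multiplicative.ofAdd 1 : C2)⁻¹) = Multiplicative.ofAdd 1 := by decide
  have h2 : ((Multiplicative.ofAdd 1 : C2)⁻¹ * Multiplicative.ofAdd 1) = 1 := by decide
  apply Prod.ext
  · simp [e2, wreathRep_apply, yy, h1, s_ne]
  · simp [e2, wreathRep_apply, yy, h2]

lemma wEnd_injective [Nontrivial V] {ρ : D →* isoGroup Q} (h : Function.Injective ρ) :
    Function.Injective (wEnd ρ) := by
  intro a b hab
  apply wreathRep_injective (toEndH ρ) (toEndH_injective h)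
  exact (e2 (F := F) (V := V)).conjRingEquiv.injective hab

lemma wEnd_iso (ρ : D →* isoGroup Q) (g : D ≀ᵣ C2) (v : V × V) :
    (Q.prod Q) (wEnd ρ g v) = (Q.prod Q) v := by
  have hb : ∀ (a b : D) (w : V × V), (Q.prod Q) (wEnd ρ (bp a b) w) = (Q.prod Q) w := by
    intro a b w
    rw [wEnd_bp]
    change Q ((ρ a).1 w.1) + Q ((ρ b).1 w.2) = Q w.1 + Q w.2
    rw [(ρ a).2 w.1, (ρ b).2 w.2]
  by_cases hr : g.right = 1
  · rw [eq_bp hr]
    exact hb _ _ _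
  · rw [eq_bp_yy hr, map_mul]
    change (Q.prod Q) (wEnd ρ (bp _ _) (wEnd ρ yy v)) = _
    rw [hb, wEnd_yy]
    change Q v.2 + Q v.1 = Q v.1 + Q v.2
    rw [add_comm]

/-- The wreath product as a group of isometries. -/
noncomputable def wRep (ρ : D →* isoGroup Q) : D ≀ᵣ C2 →* isoGroup (Q.prod Q) :=
  isoHom (wEnd ρ) (wEnd_iso ρ)

lemma wRep_bp (ρ : D →* isoGroup Q) (a b : D) : wRep ρ (bp a b) = blockHom Q Q (ρ a, ρ b) := by
  apply Subtype.ext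
  apply LinearEquiv.ext
  intro v
  exact wEnd_bp ρ a b v

lemma wRep_yy (ρ : D →* isoGroup Q) : wRep ρ (yy : D ≀ᵣ C2) = swapI Q := by
  apply Subtype.ext
  apply LinearEquiv.ext
  intro v
  exact wEnd_yy ρ v

lemma wRep_injective [Nontrivial V] {ρ : D →* isoGroup Q} (h : Function.Injective ρ) :
    Function.Injective (wRep ρ) := by
  intro a b hab
  apply wEnd_injective h
  apply LinearMap.ext
  intro v
  exact congrArg (fun T : isoGroup (Q.prod Q) => T.1 v) hab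

/-- Direct products. -/
def pRep {T₁ T₂ V₁ V₂ : Type*} [Group T₁] [Group T₂] [AddCommGroup V₁] [Module F V₁] [AddCommGroup V₂]
    [Module F V₂] {Q₁ : QuadraticForm F V₁} {Q₂ : QuadraticForm F V₂} (ρ₁ : T₁ →* isoGroup Q₁)
    (ρ₂ : T₂ →* isoGroup Q₂) : T₁ × T₂ →* isoGroup (Q₁.prod Q₂) :=
  (blockHom Q₁ Q₂).comp (MonoidHom.prodMap ρ₁ ρ₂)

lemma pRep_apply {T₁ T₂ V₁ V₂ : Type*} [Group T₁] [Group T₂] [AddCommGroup V₁] [Module F V₁] [AddCommGroup V₂]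
    [Module F V₂] {Q₁ : QuadraticForm F V₁} {Q₂ : QuadraticForm F V₂} (ρ₁ : T₁ →* isoGroup Q₁)
    (ρ₂ : T₂ →* isoGroup Q₂) (x : T₁ × T₂) : pRep ρ₁ ρ₂ x = blockHom Q₁ Q₂ (ρ₁ x.1, ρ₂ x.2) := rfl

lemma pRep_injective {T₁ T₂ V₁ V₂ : Type*} [Group T₁] [Group T₂] [AddCommGroup V₁] [Module F V₁] [AddCommGroup V₂]
    [Module F V₂] {Q₁ : QuadraticForm F V₁} {Q₂ : QuadraticForm F V₂} {ρ₁ : T₁ →* isoGroup Q₁}
    {ρ₂ : T₂ →* isoGroup Q₂} (h₁ : Function.Injective ρ₁) (h₂ : Function.Injective ρ₂) :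
    Function.Injective (pRep ρ₁ ρ₂) := by
  intro a b hab
  have := blockHom_injective Q₁ Q₂ hab
  exact Prod.ext (h₁ (congrArg Prod.fst this)) (h₂ (congrArg Prod.snd this))

/-- A totally singular subspace of dimension `k`. -/
def HasTS (Q : QuadraticForm F V) (k : ℕ) : Prop :=
  ∃ U : Submodule F V, (∀ u ∈ U, Q u = 0) ∧ finrank F U = k

lemma HasTS.prod {V₁ V₂ : Type*} [AddCommGroup V₁] [Module F V₁] [AddCommGroup V₂] [Module F V₂]
    [FiniteDimensional F V₁] [FiniteDimensional F V₂] {Q₁ : QuadraticForm F V₁} {Q₂ : QuadraticForm F V₂} {k₁ k₂ : ℕ} (h₁ : HasTS Q₁ k₁) (h₂ : HasTS Q₂ k₂) :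
    HasTS (Q₁.prod Q₂) (k₁ + k₂) := by
  obtain ⟨U₁, a₁, b₁⟩ := h₁
  obtain ⟨U₂, a₂, b₂⟩ := h₂
  refine ⟨U₁.prod U₂, ?_, ?_⟩
  · rintro ⟨x, y⟩ ⟨hx, hy⟩
    change Q₁ x + Q₂ y = 0
    rw [a₁ x hx, a₂ y hy, add_zero]
  · let e : (U₁.prod U₂) ≃ₗ[F] U₁ × U₂ :=
      { toFun := fun x => (⟨x.1.1, x.2.1⟩, ⟨x.1.2, x.2.2⟩)
        invFun := fun x => ⟨(x.1.1, x.2.1), x.1.2, x.2.2⟩
        map_add' := fun a b => rfl
        map_smul' := fun a b => rfl
        left_inv := fun a => rfl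
        right_inv := fun a => rfl }
    rw [e.finrank_eq, Module.finrank_prod, b₁, b₂]

end rep

section levels

variable {F : Type*} [Field F] [Finite F] [Fact ((2 : F) ≠ 0)]
  {V V₁ V₂ : Type*} [AddCommGroup V] [Module F V] [FiniteDimensional F V]
  [AddCommGroup V₁] [Module F V₁] [FiniteDimensional F V₁] [AddCommGroup V₂] [Module F V₂] [FiniteDimensional F V₂]

/-- The basic properties of a representation. -/
structure Lv {T : Type*} [Group T] (Q : QuadraticForm F V) (hQ : (polarBilin Q).Nondegenerate)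
    (ρ : T →* isoGroup Q) : Prop where
  inj : Function.Injective ρ
  real : IsReal T
  surj : ∀ a : A, ∃ t, J Q hQ (ρ t) = a

/-- The properties of the higher levels. -/
structure Lv2 {T : Type*} [Group T] (Q : QuadraticForm F V) (hQ : (polarBilin Q).Nondegenerate)
    (ρ : T →* isoGroup Q) : Prop where
  np : ∀ f : A →* A, NPow (f.comp ((J Q hQ).comp ρ))
  lift : ∀ v w : A, ∃ x y, J Q hQ (ρ x) = v ∧ J Q hQ (ρ y) = w ∧ x * y = y * x

variable {D T₁ T₂ : Type*} [Group D] [Group T₁] [Group T₂] {Q : QuadraticForm F V} {Q₁ : QuadraticForm F V₁}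
  {Q₂ : QuadraticForm F V₂}

lemma J_wRep_bp (hQ : (polarBilin Q).Nondegenerate) (h : (polarBilin (Q.prod Q)).Nondegenerate)
    (ρ : D →* isoGroup Q) (a b : D) : J (Q.prod Q) h (wRep ρ (bp a b)) = J Q hQ (ρ a) * J Q hQ (ρ b) := by
  rw [wRep_bp, J_block hQ hQ h]

theorem Lv.wreath [Nontrivial V] {hQ : (polarBilin Q).Nondegenerate} {ρ : D →* isoGroup Q} (h : Lv Q hQ ρ)
    (h' : (polarBilin (Q.prod Q)).Nondegenerate) : Lv (Q.prod Q) h' (wRep ρ) := by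
  refine ⟨wRep_injective h.inj, h.real.wreath, fun a => ?_⟩
  obtain ⟨t, ht⟩ := h.surj a
  refine ⟨bp t 1, ?_⟩
  rw [J_wRep_bp hQ h', ht, map_one, map_one, mul_one]

theorem Lv2.wreath {hQ : (polarBilin Q).Nondegenerate} {ρ : D →* isoGroup Q} (h : Lv Q hQ ρ)
    (h' : (polarBilin (Q.prod Q)).Nondegenerate) (hs : J (Q.prod Q) h' (swapI Q) = 1) :
    Lv2 (Q.prod Q) h' (wRep ρ) := by
  refine ⟨fun f => npow_wreath h.real A_sq _ ?_, fun v w => ?_⟩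
  · change f (J (Q.prod Q) h' (wRep ρ yy)) = 1
    rw [wRep_yy, hs, map_one]
  · obtain ⟨x, hx⟩ := h.surj v
    obtain ⟨y, hy⟩ := h.surj w
    refine ⟨bp x 1, bp 1 y, ?_, ?_, ?_⟩
    · rw [J_wRep_bp hQ h', hx, map_one, map_one, mul_one]
    · rw [J_wRep_bp hQ h', hy, map_one, map_one, one_mul]
    · rw [bp_mul, bp_mul, mul_one, one_mul, mul_one, one_mul]

lemma J_pRep (h₁ : (polarBilin Q₁).Nondegenerate) (h₂ : (polarBilin Q₂).Nondegenerate)
    (h : (polarBilin (Q₁.prod Q₂)).Nondegenerate) (ρ₁ : T₁ →* isoGroup Q₁) (ρ₂ : T₂ →* isoGroup Q₂) (x : T₁ × T₂) :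
    J (Q₁.prod Q₂) h (pRep ρ₁ ρ₂ x) = J Q₁ h₁ (ρ₁ x.1) * J Q₂ h₂ (ρ₂ x.2) := by
  rw [pRep_apply, J_block h₁ h₂ h]

theorem Lv.prod {h₁ : (polarBilin Q₁).Nondegenerate} {h₂ : (polarBilin Q₂).Nondegenerate}
    {ρ₁ : T₁ →* isoGroup Q₁} {ρ₂ : T₂ →* isoGroup Q₂} (a₁ : Lv Q₁ h₁ ρ₁) (a₂ : Lv Q₂ h₂ ρ₂)
    (h : (polarBilin (Q₁.prod Q₂)).Nondegenerate) : Lv (Q₁.prod Q₂) h (pRep ρ₁ ρ₂) := by
  refine ⟨pRep_injective a₁.inj a₂.inj, a₁.real.prod a₂.real, fun a => ?_⟩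
  obtain ⟨t, ht⟩ := a₁.surj a
  refine ⟨(t, 1), ?_⟩
  rw [J_pRep h₁ h₂ h, ht]
  simp

theorem Lv2.prod {h₁ : (polarBilin Q₁).Nondegenerate} {h₂ : (polarBilin Q₂).Nondegenerate}
    {ρ₁ : T₁ →* isoGroup Q₁} {ρ₂ : T₂ →* isoGroup Q₂} (a₁ : Lv Q₁ h₁ ρ₁) (b₁ : Lv2 Q₁ h₁ ρ₁) (a₂ : Lv Q₂ h₂ ρ₂)
    (h : (polarBilin (Q₁.prod Q₂)).Nondegenerate) : Lv2 (Q₁.prod Q₂) h (pRep ρ₁ ρ₂) := by
  have hL : ∀ a : T₁, J (Q₁.prod Q₂) h (pRep ρ₁ ρ₂ (a, 1)) = J Q₁ h₁ (ρ₁ a) := by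
    intro a
    rw [J_pRep h₁ h₂ h]
    simp
  have hR : ∀ b : T₂, J (Q₁.prod Q₂) h (pRep ρ₁ ρ₂ (1, b)) = J Q₂ h₂ (ρ₂ b) := by
    intro b
    rw [J_pRep h₁ h₂ h]
    simp
  refine ⟨fun f => npow_prod_real a₁.real a₂.real A_sq _ ?_ ?_, fun v w => ?_⟩
  · intro b d
    obtain ⟨x, y, hx, hy, hxy⟩ := b₁.lift (J Q₂ h₂ (ρ₂ b)) (J Q₂ h₂ (ρ₂ d))
    refine ⟨x, y, ?_, ?_, hxy⟩
    · change f (J (Q₁.prod Q₂) h _) = f (J (Q₁.prod Q₂) h _)
      rw [hL, hR, hx]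
    · change f (J (Q₁.prod Q₂) h _) = f (J (Q₁.prod Q₂) h _)
      rw [hL, hR, hy]
  · intro a
    obtain ⟨b, hb⟩ := a₂.surj (J Q₁ h₁ (ρ₁ a))
    refine ⟨b, ?_⟩
    change f (J (Q₁.prod Q₂) h _) = f (J (Q₁.prod Q₂) h _)
    rw [hL, hR, hb]
  · obtain ⟨x, y, hx, hy, hxy⟩ := b₁.lift v w
    refine ⟨(x, 1), (y, 1), ?_, ?_, ?_⟩
    · rw [hL, hx]
    · rw [hL, hy]
    · exact Prod.ext hxy rfl

end levels

end Cfsg.Agent.Lib.OmegaSyl.Level
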