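/-
The tower of orthogonal representations: iterated wreath products and products.
-/
import Mathlib
import Cfsg.Agent.Lib.OmegaSyl.Level

set_option autoImplicit false
set_option linter.all false

namespace Cfsg.Agent.Lib.OmegaSyl.TowerO

open Module Subgroup RegularWreathProduct
open Cfsg.Agent.Lib.Witt.Quadratic QuadraticMap
open Cfsg.Agent.Lib.OmegaSyl.Real Cfsg.Agent.Lib.OmegaSyl.Inv Cfsg.Agent.Lib.OmegaSyl.Level
open Cfsg.Agent.Lib.SpWreath.NPow Cfsg.Agent.Lib.SpWreath.NRank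
open Cfsg.Agent.Lib.SpWreath.Tower (legendre_split)
open scoped Nat

universe u

variable {F : Type u} [Field F] [Finite F] [Fact ((2 : F) ≠ 0)]

variable {T₀ V₀ : Type u} [Group T₀] [Finite T₀] [AddCommGroup V₀] [Module F V₀] [FiniteDimensional F V₀]
  {Q₀ : QuadraticForm F V₀} {hQ₀ : (polarBilin Q₀).Nondegenerate} {ρ₀ : T₀ →* isoGroup Q₀} (t : ℕ)
  (hL : Lv Q₀ hQ₀ ρ₀) (hd : finrank F V₀ = 2) (hc : Nat.card T₀ = 2 ^ t)
  (hs : ∀ h, J (Q₀.prod Q₀) h (swapI Q₀) = 1) (hts : HasTS (Q₀.prod Q₀) 2)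

include hL hd hc hs hts

theorem exists_level (a : ℕ) :
    ∃ (T V : Type u) (_ : Group T) (_ : Finite T) (_ : AddCommGroup V) (_ : Module F V) (_ : FiniteDimensional F V)
      (Q : QuadraticForm F V) (hQ : (polarBilin Q).Nondegenerate) (ρ : T →* isoGroup Q),
      Lv Q hQ ρ ∧ finrank F V = 2 * 2 ^ a ∧ Nat.card T = 2 ^ (2 ^ a * t + (2 ^ a - 1)) ∧
      (∀ h, J (Q.prod Q) h (swapI Q) = 1) ∧ HasTS (Q.prod Q) (2 * 2 ^ a) ∧
      (1 ≤ a → Lv2 Q hQ ρ ∧ HasTS Q (2 ^ a)) := by
  classical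
  induction a with
  | zero =>
    exact ⟨T₀, V₀, inferInstance, inferInstance, inferInstance, inferInstance, inferInstance, Q₀, hQ₀, ρ₀, hL,
      by simpa using hd, by simpa using hc, hs, by simpa using hts, by simp⟩
  | succ a ih =>
    obtain ⟨T, V, _, _, _, _, _, Q, hQ, ρ, hLv, hV, hcard, hsw, hTS, -⟩ := ih
    haveI : Nontrivial V := by
      apply Module.nontrivial_of_finrank_pos (R := F)
      rw [hV]
      positivity
    have h2 : (polarBilin (Q.prod Q)).Nondegenerate := nd_prod hQ hQ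
    refine ⟨T ≀ᵣ C2, V × V, inferInstance, inferInstance, inferInstance, inferInstance, inferInstance, Q.prod Q, h2,
      wRep ρ, hLv.wreath h2, ?_, ?_, ?_, ?_, ?_⟩
    · rw [Module.finrank_prod, hV, pow_succ]
      ring
    · rw [RegularWreathProduct.card, hcard, card_C2, ← pow_mul, ← pow_succ]
      congr 1
      have hpos : 1 ≤ 2 ^ a := Nat.one_le_two_pow
      rw [pow_succ]
      generalize 2 ^ a = b at hpos
      have : b * 2 * t = 2 * (b * t) := by ring
      rw [this]
      generalize b * t = u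
      omega
    · intro h
      exact J_swap_step hQ h2 h
    · have := hTS.prod hTS
      convert this using 1
      rw [pow_succ]
      ring
    · intro _
      refine ⟨Lv2.wreath hLv h2 (hsw h2), ?_⟩
      convert hTS using 1
      rw [pow_succ]
      ring

theorem exists_even (k : ℕ) (hk : 1 ≤ k) :
    ∃ (T V : Type u) (_ : Group T) (_ : Finite T) (_ : AddCommGroup V) (_ : Module F V) (_ : FiniteDimensional F V)
      (Q : QuadraticForm F V) (hQ : (polarBilin Q).Nondegenerate) (ρ : T →* isoGroup Q),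
      Lv Q hQ ρ ∧ Lv2 Q hQ ρ ∧ finrank F V = 2 * (2 * k) ∧
      Nat.card T = 2 ^ ((2 * k) * t + padicValNat 2 (2 * k)!) ∧ HasTS Q (2 * k) := by
  classical
  induction k using Nat.strong_induction_on with
  | _ k ih =>
    set a := Nat.log 2 k with ha
    have h1 : 2 ^ a ≤ k := Nat.pow_log_le_self 2 (by omega)
    have h2 : k < 2 ^ (a + 1) := Nat.lt_pow_succ_log_self (by norm_num) k
    clear_value a
    clear ha
    obtain ⟨m, rfl⟩ : ∃ m, k = 2 ^ a + m := ⟨k - 2 ^ a, by omega⟩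
    have hm : m < 2 ^ a := by
      rw [pow_succ] at h2
      omega
    have e2 : 2 * (2 ^ a + m) = 2 ^ (a + 1) + 2 * m := by
      rw [pow_succ]
      ring
    have hleg := legendre_split (a + 1) (2 * m) (by rw [pow_succ]; omega)
    rw [← e2] at hleg
    obtain ⟨T₁, V₁, _, _, _, _, _, Q₁, hQ₁, ρ₁, hLv₁, hV₁, hcard₁, -, -, h₃⟩ :=
      exists_level t hL hd hc hs hts (a + 1)
    obtain ⟨hLv₂, hTS₁⟩ := h₃ (by omega)
    rcases Nat.eq_zero_or_pos m with rfl | hmpos
    · refine ⟨T₁, V₁, inferInstance, inferInstance, inferInstance, inferInstance, inferInstance, Q₁, hQ₁, ρ₁,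
        hLv₁, hLv₂, ?_, ?_, ?_⟩
      · rw [hV₁, add_zero, pow_succ]
        ring
      · rw [hcard₁, hleg]
        congr 1
        simp only [add_zero, mul_zero, Nat.factorial_zero, padicValNat.one]
        rw [pow_succ]
        ring
      · convert hTS₁ using 1
        rw [pow_succ]
        ring
    · have hmk : m < 2 ^ a + m := by
        have : 1 ≤ 2 ^ a := Nat.one_le_two_pow
        omega
      obtain ⟨T₂, V₂, _, _, _, _, _, Q₂, hQ₂, ρ₂, hL₂, hL₂', hV₂, hcard₂, hTS₂⟩ := ih m hmk hmpos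
      have hnd : (polarBilin (Q₁.prod Q₂)).Nondegenerate := nd_prod hQ₁ hQ₂
      refine ⟨T₁ × T₂, V₁ × V₂, inferInstance, inferInstance, inferInstance, inferInstance, inferInstance, Q₁.prod Q₂,
        hnd, pRep ρ₁ ρ₂, hLv₁.prod hL₂ hnd, Lv2.prod hLv₁ hLv₂ hL₂ hnd, ?_, ?_, ?_⟩
      · rw [Module.finrank_prod, hV₁, hV₂, pow_succ]
        ring
      · rw [Nat.card_prod, hcard₁, hcard₂, ← pow_add, hleg]
        congr 1
        rw [e2, add_mul]
        ring
      · have := hTS₁.prod hTS₂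
        convert this using 1

end Cfsg.Agent.Lib.OmegaSyl.TowerO
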