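/-
The base of the tower: Sylow `2`-subgroups of the orthogonal groups of the planes `x² - ε y²`, `ε = ±1`.
-/
import Mathlib
import Cfsg.Agent.Lib.OmegaSyl.TowerO
import Cfsg.Agent.Lib.Orth.HypBasis
import Cfsg.Agent.Lib.Orth.Closure
import Cfsg.Agent.Lib.Orth.Bridge
import Cfsg.Agent.Lib.Classical.QuadOrders

set_option autoImplicit false
set_option linter.all false

namespace Cfsg.Agent.Lib.OmegaSyl.Plane

open Module Subgroup
open Cfsg.Agent.Lib.Witt.Quadratic Cfsg.Agent.Lib.Orth.Refl Cfsg.Agent.Lib.Orth.Spin QuadraticMap Multiplicative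
open Cfsg.Agent.Lib.OmegaSyl.Real Cfsg.Agent.Lib.OmegaSyl.Inv Cfsg.Agent.Lib.OmegaSyl.Level

universe u

section sylow

/-- A Sylow subgroup surjects onto every quotient which is a `2`-group. -/
theorem sylow_surj {G B : Type*} [Group G] [Finite G] [Group B] [Finite B] (hB : IsPGroup 2 B) (φ : G →* B)
    (hφ : Function.Surjective φ) (S : Sylow 2 G) (b : B) : ∃ s ∈ (S : Subgroup G), φ s = b := by
  haveI : Fact (Nat.Prime 2) := ⟨Nat.prime_two⟩
  set I : Subgroup B := (S : Subgroup G).map φ with hI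
  have h1 : (I.comap φ).index ∣ (S : Subgroup G).index := Subgroup.index_dvd_of_le (Subgroup.le_comap_map _ _)
  rw [Subgroup.index_comap_of_surjective _ hφ] at h1
  have h2 : I.index ∣ Nat.card B := Subgroup.index_dvd_card I
  obtain ⟨k, hk⟩ := IsPGroup.iff_card.1 hB
  rw [hk] at h2
  obtain ⟨j, -, hj⟩ := (Nat.dvd_prime_pow Nat.prime_two).1 h2
  have hj0 : j = 0 := by
    by_contra hne
    apply S.not_dvd_index
    refine dvd_trans ?_ h1
    rw [hj]
    exact dvd_pow_self 2 hne
  have hI1 : I.index = 1 := by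
    rw [hj, hj0, pow_zero]
  have : I = ⊤ := Subgroup.index_eq_one.1 hI1
  have hb : b ∈ I := by
    rw [this]
    trivial
  obtain ⟨s, hs, rfl⟩ := hb
  exact ⟨s, hs, rfl⟩

end sylow

section surj

variable {F V : Type*} [Field F] [Finite F] [Fact ((2 : F) ≠ 0)] [AddCommGroup V] [Module F V]
  [FiniteDimensional F V] {Q : QuadraticForm F V}

lemma isPGroup_A : IsPGroup 2 A := by
  intro a
  exact ⟨1, by simpa [pow_two] using A_sq a⟩

lemma ringChar_ne : ringChar F ≠ 2 := by
  intro hh
  have h2 : (2 : F) ≠ 0 := Fact.out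
  apply h2
  have := ringChar.spec F 2
  exact_mod_cast (this.mpr (by rw [hh]))

/-- `J` is surjective as soon as the dimension is at least two. -/
theorem J_surj (hQ : (polarBilin Q).Nondegenerate) (hd : 2 ≤ finrank F V) : Function.Surjective (J Q hQ) := by
  classical
  haveI := Fintype.ofFinite F
  have h2 : (2 : F) ≠ 0 := Fact.out
  obtain ⟨ν, hν⟩ := FiniteField.exists_nonsquare (F := F) ringChar_ne
  have hν0 : ν ≠ 0 := by
    rintro rfl
    exact hν IsSquare.zero
  obtain ⟨w, hw⟩ := Cfsg.Agent.Lib.Orth.Closure.exists_Q_eq Q h2 hQ hd 1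
  obtain ⟨n, hn⟩ := Cfsg.Agent.Lib.Orth.Closure.exists_Q_eq Q h2 hQ hd ν
  have h1 : J Q hQ (rf Q w) = (ofAdd 1, ofAdd 0) := by
    rw [J_refl hQ (by rw [hw]; exact one_ne_zero), hw, sqc_one]
  have h3 : J Q hQ (rf Q n) = (ofAdd 1, ofAdd 1) := by
    rw [J_refl hQ (by rwa [hn]), hn, sqc_eq_one_iff.2 hν]
  have hall : ∀ a : A, a = 1 ∨ a = (ofAdd 1, ofAdd 0) ∨ a = (ofAdd 1, ofAdd 1) ∨
      a = (ofAdd 1, ofAdd 0) * (ofAdd 1, ofAdd 1) := by decide
  intro a
  rcases hall a with rfl | rfl | rfl | rfl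
  · exact ⟨1, map_one _⟩
  · exact ⟨_, h1⟩
  · exact ⟨_, h3⟩
  · exact ⟨rf Q w * rf Q n, by rw [map_mul, h1, h3]⟩

end surj

section plane

variable {F : Type*} [Field F]

/-- The form `x² - ε y²`. -/
noncomputable def planeQ (ε : F) : QuadraticForm F (F × F) :=
  (QuadraticMap.sq (R := F)).prod ((-ε) • QuadraticMap.sq (R := F))

lemma planeQ_apply (ε : F) (v : F × F) : planeQ ε v = v.1 * v.1 - ε * (v.2 * v.2) := by
  simp [planeQ, QuadraticMap.sq]
  ring

lemma polar_plane (ε : F) (u v : F × F) : polar (planeQ ε) u v = 2 * u.1 * v.1 - 2 * ε * u.2 * v.2 := by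
  simp only [polar, planeQ_apply, Prod.fst_add, Prod.snd_add]
  ring

lemma plane_nd (h2 : (2 : F) ≠ 0) {ε : F} (hε : ε ≠ 0) : (polarBilin (planeQ ε)).Nondegenerate := by
  apply nd_of_left
  intro x hx
  have h1 := hx (1, 0)
  have h3 := hx (0, 1)
  rw [polar_plane] at h1 h3
  simp at h1 h3
  apply Prod.ext
  · simpa [h2] using h1
  · simpa [h2, hε] using h3

lemma plane_finrank : finrank F (F × F) = 2 := by
  rw [Module.finrank_prod, Module.finrank_self]

lemma det_plane (g : (F × F) →ₗ[F] (F × F)) :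
    LinearMap.det g = (g (1, 0)).1 * (g (0, 1)).2 - (g (0, 1)).1 * (g (1, 0)).2 := by
  rw [← LinearMap.det_toMatrix (Module.Basis.finTwoProd F), Matrix.det_fin_two]
  simp [LinearMap.toMatrix_apply]

lemma linear_plane (g : (F × F) →ₗ[F] (F × F)) (x y : F) :
    g (x, y) = ((g (1, 0)).1 * x + (g (0, 1)).1 * y, (g (1, 0)).2 * x + (g (0, 1)).2 * y) := by
  have : ((x, y) : F × F) = x • ((1, 0) : F × F) + y • ((0, 1) : F × F) := by
    apply Prod.ext <;> simp
  rw [this, map_add, map_smul, map_smul]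
  apply Prod.ext <;> simp <;> ring

/-- The determinant as a homomorphism on the isometry group. -/
noncomputable def detH {V : Type*} [AddCommGroup V] [Module F V] (Q : QuadraticForm F V) : isoGroup Q →* F :=
  (LinearMap.det (A := F) (M := V)).comp (toEndH (MonoidHom.id (isoGroup Q)))

lemma detH_apply {V : Type*} [AddCommGroup V] [Module F V] (Q : QuadraticForm F V) (g : isoGroup Q) :
    detH Q g = LinearMap.det (g.1 : V →ₗ[F] V) := rfl

/-- Isometries of the plane are rotations or involutions. -/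
theorem plane_cases (h2 : (2 : F) ≠ 0) {ε : F} (hε : ε ≠ 0) (g : isoGroup (planeQ ε)) :
    detH _ g = 1 ∨ (detH _ g = -1 ∧ g * g = 1) := by
  set L : (F × F) →ₗ[F] (F × F) := (g.1 : (F × F) →ₗ[F] (F × F)) with hL
  have hL' : ∀ v, L v = g.1 v := fun v => rfl
  set a := (L (1, 0)).1 with ha
  set c := (L (1, 0)).2 with hc
  set b := (L (0, 1)).1 with hb
  set d := (L (0, 1)).2 with hd
  have hg : ∀ x y : F, L (x, y) = (a * x + b * y, c * x + d * y) := fun x y => linear_plane L x y
  have hQg : ∀ x y : F, planeQ ε (L (x, y)) = planeQ ε (x, y) := fun x y => g.2 (x, y)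
  have e1 := hQg 1 0
  have e2 := hQg 0 1
  have e3 := hQg 1 1
  rw [hg, planeQ_apply, planeQ_apply] at e1 e2 e3
  simp only [mul_one, mul_zero, add_zero, zero_add, sub_zero, zero_sub] at e1 e2 e3
  have e4 : a * b = ε * (c * d) := by
    have : 2 * (a * b - ε * (c * d)) = 0 := by linear_combination e3 - e1 - e2
    have := (mul_eq_zero.1 this).resolve_left h2
    linear_combination this
  have hdet : detH _ g = a * d - b * c := det_plane L
  have e5 : ε * ((a * d - b * c) ^ 2 - 1) = 0 := by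
    linear_combination (a * b - ε * (c * d)) * e4 - (b * b - ε * (d * d)) * e1 - e2
  have e6 := (mul_eq_zero.1 e5).resolve_left hε
  have e7 : (a * d - b * c - 1) * (a * d - b * c + 1) = 0 := by linear_combination e6
  rcases mul_eq_zero.1 e7 with h | h
  · left
    rw [hdet]
    linear_combination h
  · right
    have hD : a * d - b * c = -1 := by linear_combination h
    refine ⟨by rw [hdet, hD], ?_⟩
    have hdd : d = -a := by
      linear_combination (-1 : F) * d * e1 + a * hD + c * e4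
    have hbb : b = -(ε * c) := by
      linear_combination (-1 : F) * b * e1 + ε * c * hD + a * e4
    apply Subtype.ext
    apply LinearEquiv.ext
    rintro ⟨x, y⟩
    change L (L (x, y)) = (x, y)
    rw [hg, hg]
    apply Prod.ext
    · simp only
      rw [hdd, hbb]
      linear_combination x * e1
    · simp only
      rw [hdd, hbb]
      linear_combination y * e1

end plane

section base

variable {F : Type u} [Field F] [Finite F] [Fact ((2 : F) ≠ 0)]

lemma finite_iso {V : Type*} [AddCommGroup V] [Module F V] [FiniteDimensional F V] (Q : QuadraticForm F V) :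
    Finite (isoGroup Q) := by
  haveI : Finite V := Module.finite_of_finite F
  haveI : Finite (V ≃ₗ[F] V) := Finite.of_injective (fun g => (g : V → V)) DFunLike.coe_injective
  infer_instance

lemma two_ne : (2 : F) ≠ 0 := Fact.out

lemma neg_one_ne_one' : (-1 : F) ≠ 1 := by
  intro h
  apply two_ne (F := F)
  linear_combination -h

lemma det_t₀ {ε : F} (hε : ε ≠ 0) : detH (planeQ ε) (rf (planeQ ε) (0, 1)) = -1 := by
  have h2 := two_ne (F := F)
  rw [detH_apply, det_plane]
  have hq : planeQ ε (0, 1) = -ε := by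
    rw [planeQ_apply]
    ring
  have e1 : ((rf (planeQ ε) (0, 1)).1 : F × F →ₗ[F] F × F) (1, 0) = (1, 0) := by
    change refl _ _ _ = _
    rw [refl_apply, polar_plane]
    simp
  have e2 : ((rf (planeQ ε) (0, 1)).1 : F × F →ₗ[F] F × F) (0, 1) = (0, -1) := by
    change refl _ _ _ = _
    rw [refl_apply, polar_plane, hq]
    apply Prod.ext
    · simp
    · simp
      field_simp
      ring
  rw [e1, e2]
  simp

/-- Sylow `2`-subgroups of the orthogonal group of a plane: every element is conjugate to its inverse. -/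
theorem real_sylow {ε : F} (hε : ε ≠ 0) [Finite (isoGroup (planeQ ε))] (S : Sylow 2 (isoGroup (planeQ ε))) :
    IsReal S := by
  haveI : Fact (Nat.Prime 2) := ⟨Nat.prime_two⟩
  have h2 := two_ne (F := F)
  have hn := neg_one_ne_one' (F := F)
  set δ := detH (planeQ ε) with hδ
  have hcases := plane_cases h2 hε
  have hK : δ.ker.index = 2 := by
    rw [Subgroup.index_eq_two_iff]
    refine ⟨rf (planeQ ε) (0, 1), fun b => ?_⟩
    rw [MonoidHom.mem_ker, MonoidHom.mem_ker, map_mul, det_t₀ hε]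
    have hn' : ¬ (-1 : F) = 1 := hn
    rcases hcases b with h | ⟨h, -⟩
    · rw [← hδ] at h
      rw [h]
      simp [hn', Xor']
    · rw [← hδ] at h
      rw [h]
      simp [hn', Xor']
  obtain ⟨t, htS, ht⟩ : ∃ t ∈ (S : Subgroup (isoGroup (planeQ ε))), δ t ≠ 1 := by
    by_contra hall
    push Not at hall
    have hle : (S : Subgroup (isoGroup (planeQ ε))) ≤ δ.ker := fun x hx => hall x hx
    apply S.not_dvd_index
    have := Subgroup.index_dvd_of_le hle
    rwa [hK] at this
  have ht2 : t * t = 1 := by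
    rcases hcases t with h | ⟨-, h⟩
    · exact absurd h ht
    · exact h
  have htd : δ t = -1 := by
    rcases hcases t with h | ⟨h, -⟩
    · exact absurd h ht
    · exact h
  rintro ⟨x, hx⟩
  by_cases hx1 : δ x = 1
  · refine ⟨⟨t, htS⟩, ?_⟩
    apply Subtype.ext
    have h3 : (t * x) * (t * x) = 1 := by
      rcases hcases (t * x) with h | ⟨-, h⟩
      · exfalso
        have : δ (t * x) = 1 := h
        rw [map_mul, htd, hx1, mul_one] at this
        exact hn this
      · exact h
    have ht3 : t⁻¹ = t := inv_eq_of_mul_eq_one_left ht2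
    change t * x * t⁻¹ = x⁻¹
    rw [ht3]
    exact eq_inv_of_mul_eq_one_left h3
  · refine ⟨1, ?_⟩
    apply Subtype.ext
    change 1 * x * 1⁻¹ = x⁻¹
    rcases hcases x with h | ⟨-, h⟩
    · exact absurd h hx1
    · rw [one_mul, inv_one, mul_one]
      exact eq_inv_of_mul_eq_one_left h

/-- The representation of a Sylow subgroup of `O(plane)`. -/
theorem lv_sylow {ε : F} (hε : ε ≠ 0) [Finite (isoGroup (planeQ ε))] (S : Sylow 2 (isoGroup (planeQ ε)))
    (hQ : (polarBilin (planeQ ε)).Nondegenerate) :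
    Lv (planeQ ε) hQ (S : Subgroup (isoGroup (planeQ ε))).subtype := by
  refine ⟨Subtype.val_injective, real_sylow hε S, fun a => ?_⟩
  obtain ⟨s, hs, h⟩ := sylow_surj isPGroup_A (J _ hQ) (J_surj hQ (by rw [plane_finrank])) S a
  exact ⟨⟨s, hs⟩, h⟩

theorem plane_swap {ε : F} (hε : ε ≠ 0) (hs : IsSquare (-ε))
    (h : (polarBilin ((planeQ ε).prod (planeQ ε))).Nondegenerate) :
    J _ h (swapI (planeQ ε)) = 1 := by
  have h2 := two_ne (F := F)
  set Q := (planeQ ε).prod (planeQ ε) with hQd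
  let v₁ : (F × F) × (F × F) := ((1, 0), (-1, 0))
  let v₂ : (F × F) × (F × F) := ((0, 1), (0, -1))
  have q1 : Q v₁ = 2 := by
    change planeQ ε (1, 0) + planeQ ε (-1, 0) = 2
    rw [planeQ_apply, planeQ_apply]
    norm_num
  have q2 : Q v₂ = 2 * (-ε) := by
    change planeQ ε (0, 1) + planeQ ε (0, -1) = _
    rw [planeQ_apply, planeQ_apply]
    norm_num
    ring
  have hr1 : ∀ w, refl Q v₁ w = ((w.2.1, w.1.2), (w.1.1, w.2.2)) := by
    rintro ⟨⟨x, y⟩, ⟨x', y'⟩⟩
    rw [refl_apply, q1, hQd, polar_prod, polar_plane, polar_plane]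
    have : (2 : F)⁻¹ * (2 * x * (1 : F) - 2 * ε * y * 0 + (2 * x' * (-1) - 2 * ε * y' * 0)) = x - x' := by
      field_simp
      ring
    simp only [v₁]
    rw [this]
    refine Prod.ext (Prod.ext ?_ ?_) (Prod.ext ?_ ?_) <;> simp
  have hr2 : ∀ w, refl Q v₂ w = ((w.1.1, w.2.2), (w.2.1, w.1.2)) := by
    rintro ⟨⟨x, y⟩, ⟨x', y'⟩⟩
    rw [refl_apply, q2, hQd, polar_prod, polar_plane, polar_plane]
    have : (2 * -ε)⁻¹ * (2 * x * (0 : F) - 2 * ε * y * 1 + (2 * x' * 0 - 2 * ε * y' * (-1))) = y - y' := by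
      field_simp
      ring
    simp only [v₂]
    rw [this]
    refine Prod.ext (Prod.ext ?_ ?_) (Prod.ext ?_ ?_) <;> simp
  have e : swapI (planeQ ε) = rf Q v₁ * rf Q v₂ := by
    apply Subtype.ext
    apply LinearEquiv.ext
    intro w
    change (w.2, w.1) = refl Q v₁ (refl Q v₂ w)
    rw [hr2, hr1]
  rw [e, map_mul, J_refl h (by rw [q1]; exact h2), J_refl h (by rw [q2]; exact mul_ne_zero h2 (neg_ne_zero.2 hε)), q1, q2]
  apply Prod.ext
  · change ofAdd (1 : ZMod 2) * ofAdd (1 : ZMod 2) = 1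
    decide
  · change ofAdd (sqc (2 : F)) * ofAdd (sqc (2 * -ε)) = ofAdd 0
    rw [← ofAdd_add, ← sqc_mul h2 (mul_ne_zero h2 (neg_ne_zero.2 hε)), ← mul_assoc,
      sqc_mul_self_mul h2 (neg_ne_zero.2 hε), sqc_eq_zero_iff.2 hs]

theorem plane_ts {ε : F} (hε : ε ≠ 0) : HasTS ((planeQ ε).prod (planeQ ε)) 2 := by
  classical
  haveI := Fintype.ofFinite F
  have h2 := two_ne (F := F)
  obtain ⟨v, hv⟩ := Cfsg.Agent.Lib.Orth.Closure.exists_Q_eq (planeQ ε) h2 (plane_nd h2 hε)
    (by rw [plane_finrank]) (-1)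
  rw [planeQ_apply] at hv
  obtain ⟨a, b⟩ := v
  simp only at hv
  let w : (F × F) →ₗ[F] (F × F) :=
    LinearMap.prod (a • LinearMap.fst F F F + (ε * b) • LinearMap.snd F F F)
      (b • LinearMap.fst F F F + a • LinearMap.snd F F F)
  let L : (F × F) →ₗ[F] (F × F) × (F × F) := LinearMap.prod LinearMap.id w
  have hL : Function.Injective L := fun x y h => congrArg Prod.fst h
  refine ⟨LinearMap.range L, ?_, ?_⟩
  · rintro _ ⟨⟨x, y⟩, rfl⟩
    change planeQ ε (x, y) + planeQ ε (w (x, y)) = 0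
    have e : w (x, y) = (a * x + ε * b * y, b * x + a * y) := rfl
    rw [e, planeQ_apply, planeQ_apply]
    simp only
    linear_combination (x * x - ε * (y * y)) * hv
  · rw [LinearMap.finrank_range_of_inj hL, plane_finrank]

/-- The diagonal line of a hyperbolic plane, scaled. -/
theorem hyp_ts (c : F) : HasTS (c • planeQ (1 : F)) 1 := by
  let L : F →ₗ[F] (F × F) := LinearMap.prod LinearMap.id LinearMap.id
  have hL : Function.Injective L := fun x y h => congrArg Prod.fst h
  refine ⟨LinearMap.range L, ?_, ?_⟩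
  · rintro _ ⟨x, rfl⟩
    have : (c • planeQ (1 : F)) (L x) = c • planeQ (1 : F) (x, x) := rfl
    rw [this, planeQ_apply]
    simp
  · rw [LinearMap.finrank_range_of_inj hL, Module.finrank_self]

end base

end Cfsg.Agent.Lib.OmegaSyl.Plane
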