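/-
From the tower to the Sylow `2`-subgroups of `Ω`.
-/
import Mathlib
import Cfsg.Agent.Lib.OmegaSyl.Plane

set_option autoImplicit false
set_option linter.all false

namespace Cfsg.Agent.Lib.OmegaSyl.Final

open Module Subgroup Cfsg
open Cfsg.Agent.Lib.Witt.Quadratic Cfsg.Agent.Lib.Orth.Refl Cfsg.Agent.Lib.Orth.Spin QuadraticMap Multiplicative
open Cfsg.Agent.Lib.Orth.Bridge Cfsg.Agent.Lib.Orth.Forms
open Cfsg.Agent.Lib.OmegaSyl.Real Cfsg.Agent.Lib.OmegaSyl.Inv Cfsg.Agent.Lib.OmegaSyl.Level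
  Cfsg.Agent.Lib.OmegaSyl.Plane Cfsg.Agent.Lib.OmegaSyl.TowerO
open Cfsg.Agent.Lib.SpWreath.NPow Cfsg.Agent.Lib.SpWreath.DetW Cfsg.Agent.Lib.SpWreath.GenTower
open Cfsg.Agent.Lib.SpWreath.Tower
open scoped Nat

universe u

section final

variable {F : Type u} [Field F] [Fintype F] [Fact ((2 : F) ≠ 0)]

/-- The reduction to a single subgroup of `Ω`. -/
theorem final_of_hom {ι : Type} [Fintype ι] [DecidableEq ι] (Q₀ : QuadraticForm F (ι → F))
    (hQ₀ : (polarBilin Q₀).Nondegenerate) (hι : 2 ≤ Fintype.card ι)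
    {V : Type*} [AddCommGroup V] [Module F V] [FiniteDimensional F V] {Q : QuadraticForm F V}
    (hQ : (polarBilin Q).Nondegenerate) (Θ : (ι → F) ≃ₗ[F] V) (hΘ : ∀ x, Q (Θ x) = Q₀ x)
    {K : Type*} [Group K] (g : K →* isoGroup Q) (hg : Function.Injective g) (hJ : ∀ x, J Q hQ (g x) = 1)
    (hP : ∀ x : K, x ^ 2 ∈ commutator K)
    (hc : Nat.card K * 4 = 2 ^ (Nat.card (isometryGroup F ⇑Q₀)).factorization 2)
    (P : Sylow 2 (Omega F ⇑Q₀)) (x : (P : Subgroup (Omega F ⇑Q₀))) :
    x ^ 2 ∈ commutator (P : Subgroup (Omega F ⇑Q₀)) := by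
  classical
  haveI := fact_two
  have h2 : (2 : F) ≠ 0 := Fact.out
  let e : isoGroup Q ≃* isometryGroup F ⇑Q₀ := (isoEquiv Θ hΘ).symm.trans (toIso Q₀).symm
  let g' : K →* Omega F ⇑Q₀ :=
    MonoidHom.mk' (fun k => ⟨e (g k), by
      rw [Omega, ← mem_commutator_equiv e (g k)]
      exact (J_eq_one_iff hQ _).1 (hJ k)⟩)
      (fun a b => by
        apply Subtype.ext
        simp)
  have hg' : Function.Injective g' := by
    intro a b hab
    apply hg
    apply e.injective
    exact congrArg Subtype.val hab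
  have hidx := Cfsg.Agent.Lib.Orth.Closure.index_Omega_odd Q₀ h2 hι hQ₀
  have hcard : Nat.card (Omega F ⇑Q₀) * 4 = Nat.card (isometryGroup F ⇑Q₀) := by
    rw [← hidx, Subgroup.card_mul_index]
  have hne : Nat.card (Omega F ⇑Q₀) ≠ 0 := Nat.card_pos.ne'
  have hf : (Nat.card (isometryGroup F ⇑Q₀)).factorization 2 =
      (Nat.card (Omega F ⇑Q₀)).factorization 2 + 2 := by
    rw [← hcard, Nat.factorization_mul hne (by norm_num)]
    have : (4 : ℕ).factorization 2 = 2 := by
      have : (4 : ℕ) = 2 ^ 2 := by norm_num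
      rw [this, Nat.Prime.factorization_pow Nat.prime_two]
      simp
    simp [this]
  have hcK : Nat.card K = 2 ^ (Nat.card (Omega F ⇑Q₀)).factorization 2 := by
    rw [hf, pow_add] at hc
    omega
  obtain ⟨E⟩ := sylow_equiv g' hg' hcK P
  exact sq_of_equiv E hP x

lemma card_ker_surj {T B : Type*} [Group T] [Finite T] [Group B] (ph : T →* B) (hph : Function.Surjective ph) :
    Nat.card ph.ker * Nat.card B = Nat.card T := by
  rw [← Subgroup.card_mul_index ph.ker, Subgroup.index_ker, MonoidHom.range_eq_top.2 hph]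
  congr 1
  exact Nat.card_congr (Equiv.subtypeUnivEquiv (fun _ => trivial)).symm

/-- The plus type form, from a representation. -/
theorem plus_of_rep {m : ℕ} (hm : 1 ≤ m) {T V : Type*} [Group T] [Finite T] [AddCommGroup V] [Module F V]
    [FiniteDimensional F V] {Q : QuadraticForm F V} {hQ : (polarBilin Q).Nondegenerate} {ρ : T →* isoGroup Q}
    (hL : Lv Q hQ ρ) (hL2 : Lv2 Q hQ ρ) (hd : finrank F V = 2 * m) (hts : HasTS Q m)
    (hc : Nat.card T = 2 ^ (Nat.card (isometryGroup F (quadFormPlus m F))).factorization 2)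
    (P : Sylow 2 (Omega F (quadFormPlus m F))) (x : (P : Subgroup (Omega F (quadFormPlus m F)))) :
    x ^ 2 ∈ commutator (P : Subgroup (Omega F (quadFormPlus m F))) := by
  classical
  obtain ⟨U, hU, hUm⟩ := hts
  obtain ⟨Θ, hΘ⟩ := Cfsg.Agent.Lib.Orth.HypBasis.exists_equiv_plus_of_ts hQ hd hU hUm
  let ph : T →* A := (J Q hQ).comp ρ
  have hnp : NPow ph := by
    have := hL2.np (MonoidHom.id A)
    rwa [MonoidHom.id_comp] at this
  have hph : Function.Surjective ph := hL.surj
  have hcK := card_ker_surj ph hph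
  have hA : Nat.card A = 4 := by
    simp [Nat.card_eq_fintype_card, Nat.card_prod]
  rw [hA, hc] at hcK
  refine final_of_hom (ι := Fin m ⊕ Fin m) (plusForm m F) (plusForm_nondeg m) (by simp; omega) hQ Θ hΘ
    (ρ.comp ph.ker.subtype) (hL.inj.comp Subtype.val_injective) (fun k => k.2) hnp.sq_mem hcK P x

/-- The one-dimensional form `c x²`. -/
noncomputable def cForm (c : F) : QuadraticForm F F := c • QuadraticMap.sq (R := F)

lemma cForm_apply (c x : F) : cForm c x = c * (x * x) := by
  simp [cForm, QuadraticMap.sq]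

lemma cForm_nd {c : F} (hc : c ≠ 0) : (polarBilin (cForm c)).Nondegenerate := by
  have h2 : (2 : F) ≠ 0 := Fact.out
  apply nd_of_left
  intro x hx
  have h1 := hx 1
  simp only [polar, cForm_apply] at h1
  have h3 : 2 * c * x = 0 := by linear_combination h1
  simpa [h2, hc] using h3

/-- A homomorphism from `C₂`. -/
def c2Hom {G : Type*} [Group G] (n : G) (hn : n * n = 1) : Multiplicative (ZMod 2) →* G :=
  MonoidHom.mk' (fun z => if z = 1 then 1 else n) (by
    have hall : ∀ z : Multiplicative (ZMod 2), z = 1 ∨ z = ofAdd 1 := by decide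
    have hne : (ofAdd 1 : Multiplicative (ZMod 2)) ≠ 1 := by decide
    have h11 : (ofAdd 1 : Multiplicative (ZMod 2)) * ofAdd 1 = 1 := by decide
    intro a b
    rcases hall a with rfl | rfl <;> rcases hall b with rfl | rfl
    · simp
    · simp [hne]
    · simp [hne]
    · rw [h11]
      simp [hne, hn])

/-- The homomorphism whose kernel is the group we want in odd dimension. -/
def fS (s : ZMod 2) : A →* A :=
  MonoidHom.mk' (fun a => (1, a.2 * a.1 ^ s.val)) (by
    revert s
    decide)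

lemma fS_eq (s : ZMod 2) (a : A) : a * (a.1, a.1 ^ s.val) = fS s a := by
  revert s a
  decide

lemma J_c2 {c : F} (hc : c ≠ 0) (hQ : (polarBilin (cForm c)).Nondegenerate) (z : Multiplicative (ZMod 2)) :
    J (cForm c) hQ (c2Hom (rf (cForm c) 1) (rf_mul_self 1) z) = (z, z ^ (sqc c).val) := by
  have hall : ∀ z : Multiplicative (ZMod 2), z = 1 ∨ z = ofAdd 1 := by decide
  have hne : (ofAdd 1 : Multiplicative (ZMod 2)) ≠ 1 := by decide
  rcases hall z with rfl | rfl
  · rw [map_one, map_one]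
    simp
    rfl
  · have h1 : c2Hom (rf (cForm c) 1) (rf_mul_self 1) (ofAdd 1) = rf (cForm c) 1 := by
      simp [c2Hom, hne]
    have hc1 : cForm c 1 = c := by
      rw [cForm_apply]
      ring
    rw [h1, J_refl hQ (by rwa [hc1]), hc1]
    congr 1
    generalize sqc c = s
    revert s
    decide

/-- The odd dimensional form, from a representation. -/
theorem odd_of_rep {m : ℕ} (hm : 1 ≤ m) {T V : Type*} [Group T] [Finite T] [AddCommGroup V] [Module F V]
    [FiniteDimensional F V] {Q : QuadraticForm F V} {hQ : (polarBilin Q).Nondegenerate} {ρ : T →* isoGroup Q}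
    (hL : Lv Q hQ ρ) (hL2 : Lv2 Q hQ ρ) {c : F} (hc0 : c ≠ 0) (Θ : (Unit ⊕ (Fin m ⊕ Fin m) → F) ≃ₗ[F] V × F)
    (hΘ : ∀ x, (Q.prod (cForm c)) (Θ x) = quadFormOdd m F x)
    (hc : 2 * Nat.card T = 2 ^ (Nat.card (isometryGroup F (quadFormOdd m F))).factorization 2)
    (P : Sylow 2 (Omega F (quadFormOdd m F))) (x : (P : Subgroup (Omega F (quadFormOdd m F)))) :
    x ^ 2 ∈ commutator (P : Subgroup (Omega F (quadFormOdd m F))) := by
  classical
  have h2 : (2 : F) ≠ 0 := Fact.out
  have hc' := cForm_nd hc0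
  have hnd : (polarBilin (Q.prod (cForm c))).Nondegenerate := nd_prod hQ hc'
  set s := sqc c with hs
  let ph₀ : T →* A := (J Q hQ).comp ρ
  let ph : T →* A := (fS s).comp ph₀
  have hnp : NPow ph := hL2.np (fS s)
  -- the size of the kernel
  let ph' : T →* Multiplicative (ZMod 2) := (MonoidHom.snd _ _).comp ph
  have hker : ph'.ker = ph.ker := by
    ext t
    rw [MonoidHom.mem_ker, MonoidHom.mem_ker]
    constructor
    · intro h
      exact Prod.ext rfl h
    · intro h
      exact congrArg Prod.snd h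
  have hph' : Function.Surjective ph' := by
    have hall : ∀ z : Multiplicative (ZMod 2), fS s (1, z) = (1, z) := by
      intro z
      simp [fS]
    intro z
    obtain ⟨t, ht⟩ := hL.surj (1, z)
    refine ⟨t, ?_⟩
    change (fS s (J Q hQ (ρ t))).2 = z
    rw [ht, hall]
  have hcK := card_ker_surj ph' hph'
  have hC : Nat.card (Multiplicative (ZMod 2)) = 2 := by
    simp [Nat.card_eq_fintype_card]
  rw [hker, hC] at hcK
  let e : Multiplicative (ZMod 2) →* isoGroup (cForm c) := c2Hom (rf (cForm c) 1) (rf_mul_self 1)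
  let K := ph.ker
  let g : K →* isoGroup (Q.prod (cForm c)) :=
    (blockHom Q (cForm c)).comp ((ρ.comp K.subtype).prod
      (e.comp ((MonoidHom.fst _ _).comp (ph₀.comp K.subtype))))
  have hg : Function.Injective g := by
    intro a b hab
    have := blockHom_injective _ _ hab
    exact Subtype.ext (hL.inj (congrArg Prod.fst this))
  have hJ : ∀ k, J (Q.prod (cForm c)) hnd (g k) = 1 := by
    intro k
    change J (Q.prod (cForm c)) hnd (blockHom Q (cForm c) (ρ k, e (ph₀ k).1)) = 1
    rw [J_block hQ hc' hnd]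
    simp only
    rw [J_c2 hc0 hc']
    change ph₀ k * ((ph₀ k).1, (ph₀ k).1 ^ s.val) = 1
    rw [fS_eq]
    exact k.2
  refine final_of_hom (ι := Unit ⊕ (Fin m ⊕ Fin m)) (oddForm m F) (oddForm_nondeg m h2) (by simp; omega) hnd Θ hΘ
    g hg hJ hnp.sq_mem ?_ P x
  change Nat.card K * 4 = 2 ^ (Nat.card (isometryGroup F (quadFormOdd m F))).factorization 2
  rw [← hc, ← hcK]
  change Nat.card K * 4 = 2 * (Nat.card K * 2)
  ring

end final

end Cfsg.Agent.Lib.OmegaSyl.Final
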