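/-
The Sylow `2`-subgroups of `Ω^+_{2m}(q)` and `Ω_{2m+1}(q)`, `q` odd: squares are in the derived subgroup.
-/
import Mathlib
import Cfsg.Agent.Lib.OmegaSyl.Final
import Cfsg.Agent.Lib.SpWreath.GLVal
import Cfsg.Agent.Lib.Classical.SympSimple

set_option autoImplicit false
set_option linter.all false

namespace Cfsg.Agent.Lib.OmegaSyl.Main

open Module Subgroup Cfsg
open Cfsg.Agent.Lib.Witt.Quadratic Cfsg.Agent.Lib.Orth.Refl Cfsg.Agent.Lib.Orth.Spin QuadraticMap Multiplicative
open Cfsg.Agent.Lib.Orth.Bridge Cfsg.Agent.Lib.Orth.Forms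
open Cfsg.Agent.Lib.OmegaSyl.Real Cfsg.Agent.Lib.OmegaSyl.Inv Cfsg.Agent.Lib.OmegaSyl.Level
  Cfsg.Agent.Lib.OmegaSyl.Plane Cfsg.Agent.Lib.OmegaSyl.TowerO Cfsg.Agent.Lib.OmegaSyl.Final
open Cfsg.Agent.Lib.SpWreath.Tower Cfsg.Agent.Lib.SpWreath.GLVal
open Cfsg.Agent.Lib.Classical.QuadOrders
open scoped Nat

universe u

section arith

lemma val_N (q k : ℕ) (hq : Odd q) (hq1 : 1 < q) :
    padicValNat 2 (2 * q ^ ((k + 1) * k) * (q ^ (k + 1) - 1) * ∏ i ∈ Finset.range k, (q ^ (2 * (i + 1)) - 1)) =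
      1 + padicValNat 2 (q ^ (k + 1) - 1) +
        (k * (padicValNat 2 (q + 1) + padicValNat 2 (q - 1)) + padicValNat 2 k !) := by
  haveI := fact_two
  have hne : ∀ i : ℕ, q ^ (2 * (i + 1)) - 1 ≠ 0 := by
    intro i
    have : 1 < q ^ (2 * (i + 1)) := Nat.one_lt_pow (by omega) hq1
    omega
  have hne1 : q ^ (k + 1) - 1 ≠ 0 := by
    have : 1 < q ^ (k + 1) := Nat.one_lt_pow (by omega) hq1
    omega
  have hq0 : q ≠ 0 := by omega
  rw [padicValNat.mul (mul_ne_zero (mul_ne_zero two_ne_zero (pow_ne_zero _ hq0)) hne1)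
      (Finset.prod_ne_zero_iff.2 fun i _ => hne i),
    padicValNat.mul (mul_ne_zero two_ne_zero (pow_ne_zero _ hq0)) hne1,
    padicValNat.mul two_ne_zero (pow_ne_zero _ hq0), padicValNat.self (by norm_num), val_prod q hq hq1,
    padicValNat.eq_zero_of_not_dvd (p := 2) (n := q ^ ((k + 1) * k)) (fun h =>
      (Nat.not_even_iff_odd.2 hq.pow) (even_iff_two_dvd.2 h))]

lemma val_pow_odd (q j : ℕ) (hq : Odd q) (hq1 : 1 < q) (hj : j % 2 = 1) :
    padicValNat 2 (q ^ j - 1) = padicValNat 2 (q - 1) := by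
  haveI := fact_two
  have h4 : q % 4 = 1 ∨ q % 4 = 3 := by
    have := Nat.odd_iff.1 hq
    omega
  rcases h4 with h | h
  · rw [val_pow_one q j h hq1 (by omega), padicValNat.eq_zero_of_not_dvd (p := 2) (n := j) (by omega)]
    simp
  · rw [val_odd_three q j h hj]
    have := val_odd_three q 1 h (by norm_num)
    simpa using this.symm

lemma val_fact_even (j : ℕ) :
    padicValNat 2 (2 * (j + 1))! = 1 + padicValNat 2 (j + 1) + padicValNat 2 (2 * j + 1)! := by
  haveI := fact_two
  have e : (2 * (j + 1))! = (2 * (j + 1)) * (2 * j + 1)! := by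
    have : 2 * (j + 1) = (2 * j + 1) + 1 := by ring
    rw [this, Nat.factorial_succ]
  rw [e, padicValNat.mul (by omega) (Nat.factorial_ne_zero _), padicValNat.mul (by omega) (by omega),
    padicValNat.self (by norm_num)]

lemma val_fact_odd (k : ℕ) : padicValNat 2 (2 * k + 1)! = padicValNat 2 (2 * k)! := by
  haveI := fact_two
  rw [Nat.factorial_succ, padicValNat.mul (by omega) (Nat.factorial_ne_zero _),
    padicValNat.eq_zero_of_not_dvd (p := 2) (n := 2 * k + 1) (by omega)]
  simp

end arith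

section counts

variable {F : Type u} [Field F] [Fintype F]

/-- The exponent of the Sylow `2`-subgroup of `SL₂(F)`. -/
noncomputable def tv (F : Type u) [Fintype F] : ℕ :=
  padicValNat 2 (Fintype.card F + 1) + padicValNat 2 (Fintype.card F - 1)

theorem val_plus_even (hF : Odd (Fintype.card F)) (j : ℕ) :
    (Nat.card (isometryGroup F (quadFormPlus (2 * (j + 1)) F))).factorization 2 =
      (2 * (j + 1)) * tv F + padicValNat 2 (2 * (j + 1))! := by
  haveI := fact_two
  have hq : 1 < Fintype.card F := Fintype.one_lt_card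
  have e : 2 * (j + 1) = (2 * j + 1) + 1 := by ring
  rw [Nat.factorization_def _ Nat.prime_two]
  have h := card_isometry_plus (F := F) (q := Fintype.card F) Nat.card_eq_fintype_card (2 * j + 1)
  rw [← e] at h
  rw [h]
  have h3 := val_N (Fintype.card F) (2 * j + 1) hF hq
  rw [← e] at h3
  rw [h3, val_fact_even, val_step _ hF hq j]
  simp only [tv]
  rw [e]
  ring

theorem val_plus_odd (hF : Odd (Fintype.card F)) (k : ℕ) :
    (Nat.card (isometryGroup F (quadFormPlus (2 * k + 1) F))).factorization 2 =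
      (2 * k) * tv F + padicValNat 2 (2 * k)! + (1 + padicValNat 2 (Fintype.card F - 1)) := by
  haveI := fact_two
  have hq : 1 < Fintype.card F := Fintype.one_lt_card
  rw [Nat.factorization_def _ Nat.prime_two]
  have h := card_isometry_plus (F := F) (q := Fintype.card F) Nat.card_eq_fintype_card (2 * k)
  rw [h, val_N _ _ hF hq, val_pow_odd _ _ hF hq (by omega)]
  simp only [tv]
  ring

theorem val_odd (hF : Odd (Fintype.card F)) (h2 : (2 : F) ≠ 0) (m : ℕ) :
    (Nat.card (isometryGroup F (quadFormOdd m F))).factorization 2 = 1 + (m * tv F + padicValNat 2 m !) := by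
  haveI := fact_two
  have hq : 1 < Fintype.card F := Fintype.one_lt_card
  rw [Nat.factorization_def _ Nat.prime_two]
  have h := card_isometry_odd (F := F) (q := Fintype.card F) Nat.card_eq_fintype_card h2 m
  have hne : ∀ i : ℕ, Fintype.card F ^ (2 * (i + 1)) - 1 ≠ 0 := by
    intro i
    have : 1 < Fintype.card F ^ (2 * (i + 1)) := Nat.one_lt_pow (by omega) hq
    omega
  have hq0 : Fintype.card F ≠ 0 := by omega
  rw [h, padicValNat.mul (mul_ne_zero two_ne_zero (pow_ne_zero _ hq0)) (Finset.prod_ne_zero_iff.2 fun i _ => hne i),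
    padicValNat.mul two_ne_zero (pow_ne_zero _ hq0), padicValNat.self (by norm_num), val_prod _ hF hq,
    padicValNat.eq_zero_of_not_dvd (p := 2) (n := Fintype.card F ^ (m ^ 2)) (fun h =>
      (Nat.not_even_iff_odd.2 hF.pow) (even_iff_two_dvd.2 h))]
  simp [tv]

variable [Fact ((2 : F) ≠ 0)]

lemma card_plane_one : Nat.card (isoGroup (planeQ (1 : F))) = 2 * (Fintype.card F - 1) := by
  have h2 : (2 : F) ≠ 0 := Fact.out
  have hU := hyp_ts (F := F) 1
  rw [one_smul] at hU
  obtain ⟨U, hU, hUm⟩ := hU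
  obtain ⟨Θ, hΘ⟩ := Cfsg.Agent.Lib.Orth.HypBasis.exists_equiv_plus_of_ts (plane_nd h2 one_ne_zero) (m := 1)
    (by rw [plane_finrank]) hU hUm
  have h1 : Nat.card (isoGroup (planeQ (1 : F))) = Nat.card (isoGroup (plusForm 1 F)) :=
    Nat.card_congr (isoEquiv Θ hΘ).symm.toEquiv
  rw [h1, ← Nat.card_congr (toIso (plusForm 1 F)).toEquiv]
  have := card_isometry_plus (F := F) (q := Fintype.card F) Nat.card_eq_fintype_card 0
  simpa using this

/-- Coordinates for the anisotropic plane. -/
def minusCoord (F : Type u) [Field F] : ((Fin 0 ⊕ Fin 0) ⊕ Fin 2 → F) ≃ₗ[F] F × F where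
  toFun v := (v (.inr 0), v (.inr 1))
  invFun p := Sum.elim (fun _ => 0) ![p.1, p.2]
  map_add' a b := rfl
  map_smul' c a := rfl
  left_inv v := by
    funext i
    rcases i with i | i
    · rcases i with i | i <;> exact i.elim0
    · fin_cases i <;> rfl
  right_inv p := rfl

lemma card_plane_neg (hn : ¬ IsSquare (-1 : F)) :
    Nat.card (isoGroup (planeQ (-1 : F))) = 2 * (Fintype.card F + 1) := by
  have hab : ∀ z₁ z₂ : F, z₁ ^ 2 + (0 : F) * z₁ * z₂ + (1 : F) * z₂ ^ 2 = 0 → z₁ = 0 ∧ z₂ = 0 := by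
    intro z₁ z₂ h
    have hz2 : z₂ = 0 := by
      by_contra hz
      apply hn
      refine ⟨z₁ / z₂, ?_⟩
      field_simp
      linear_combination -h
    subst hz2
    refine ⟨?_, rfl⟩
    simpa using h
  let Θ := minusCoord F
  have hΘ : ∀ v, planeQ (-1 : F) (Θ v) = minusForm 0 F 0 1 v := by
    intro v
    have e : Θ v = (v (.inr 0), v (.inr 1)) := rfl
    rw [coe_minusForm, planeQ_apply, e]
    simp [quadFormMinus]
    ring
  have h1 : Nat.card (isoGroup (planeQ (-1 : F))) = Nat.card (isoGroup (minusForm 0 F 0 1)) :=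
    Nat.card_congr (isoEquiv Θ hΘ).symm.toEquiv
  rw [h1, ← Nat.card_congr (toIso (minusForm 0 F 0 1)).toEquiv]
  have := card_isometry_minus (F := F) (q := Fintype.card F) Nat.card_eq_fintype_card hab 0
  simpa using this

/-- The choice of the sign. -/
theorem exists_base (hF : Odd (Fintype.card F)) :
    ∃ ε : F, ε ≠ 0 ∧ IsSquare (-ε) ∧ ∀ (_ : Finite (isoGroup (planeQ ε))) (S : Sylow 2 (isoGroup (planeQ ε))),
      Nat.card S = 2 ^ tv F := by
  haveI := fact_two
  have hq : 1 < Fintype.card F := Fintype.one_lt_card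
  have h4 : Fintype.card F % 4 = 1 ∨ Fintype.card F % 4 = 3 := by
    have := Nat.odd_iff.1 hF
    omega
  rcases h4 with h | h
  · refine ⟨1, one_ne_zero, FiniteField.isSquare_neg_one_iff.2 (by omega), fun _ S => ?_⟩
    rw [Sylow.card_eq_multiplicity, card_plane_one, Nat.factorization_def _ Nat.prime_two,
      padicValNat.mul (by norm_num) (by omega), padicValNat.self (by norm_num)]
    congr 1
    simp only [tv]
    have : padicValNat 2 (Fintype.card F + 1) = 1 := by
      obtain ⟨c, hc⟩ : ∃ c, Fintype.card F + 1 = 2 * (2 * c + 1) := ⟨Fintype.card F / 4, by omega⟩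
      rw [hc, padicValNat.mul (by norm_num) (by omega), padicValNat.self (by norm_num),
        padicValNat.eq_zero_of_not_dvd (by omega)]
    rw [this]
  · have hn : ¬ IsSquare (-1 : F) := by
      rw [FiniteField.isSquare_neg_one_iff]
      omega
    refine ⟨-1, neg_ne_zero.2 one_ne_zero, by simp, fun _ S => ?_⟩
    rw [Sylow.card_eq_multiplicity, card_plane_neg hn, Nat.factorization_def _ Nat.prime_two,
      padicValNat.mul (by norm_num) (by omega), padicValNat.self (by norm_num)]
    congr 1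
    simp only [tv]
    have := val_odd_three (Fintype.card F) 1 h (by norm_num)
    simp only [pow_one] at this
    rw [this]
    ring

lemma card_hyp_sylow [Finite (isoGroup (planeQ (1 : F)))] (S : Sylow 2 (isoGroup (planeQ (1 : F)))) :
    Nat.card S = 2 ^ (1 + padicValNat 2 (Fintype.card F - 1)) := by
  haveI := fact_two
  have hq : 1 < Fintype.card F := Fintype.one_lt_card
  rw [Sylow.card_eq_multiplicity, card_plane_one, Nat.factorization_def _ Nat.prime_two,
    padicValNat.mul (by norm_num) (by omega), padicValNat.self (by norm_num)]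

end counts

section main

variable {F : Type u} [Field F] [Fintype F]

lemma two_of_odd (hF : Odd (Fintype.card F)) : (2 : F) ≠ 0 := by
  rw [Ne, Cfsg.Agent.Lib.Classical.SympSimple.two_eq_zero_iff_even_card, Nat.not_even_iff_odd]
  exact hF

theorem main_plus (hF : Odd (Fintype.card F)) (m : ℕ) (hm : 2 ≤ m)
    (P : Sylow 2 (Omega F (quadFormPlus m F))) (x : (P : Subgroup (Omega F (quadFormPlus m F)))) :
    x ^ 2 ∈ commutator (P : Subgroup (Omega F (quadFormPlus m F))) := by
  classical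
  have h2 := two_of_odd hF
  haveI : Fact ((2 : F) ≠ 0) := ⟨h2⟩
  haveI := fact_two
  obtain ⟨ε, hε, hsq, hcard⟩ := exists_base hF
  haveI hfin := finite_iso (planeQ ε)
  haveI hfin1 := finite_iso (planeQ (1 : F))
  obtain ⟨S⟩ : Nonempty (Sylow 2 (isoGroup (planeQ ε))) := inferInstance
  obtain ⟨S'⟩ : Nonempty (Sylow 2 (isoGroup (planeQ (1 : F)))) := inferInstance
  have hQ₀ := plane_nd h2 hε
  have hQ₁ := plane_nd h2 (one_ne_zero (α := F))
  have hLb := lv_sylow hε S hQ₀
  have hLH := lv_sylow (one_ne_zero (α := F)) S' hQ₁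
  have htower := fun k hk => exists_even (F := F) (tv F) hLb plane_finrank (hcard hfin S) (plane_swap hε hsq)
    (plane_ts hε) k hk
  obtain ⟨k, hk | hk⟩ : ∃ k, m = 2 * k ∨ m = 2 * k + 1 := ⟨m / 2, by omega⟩
  · subst hk
    obtain ⟨j, rfl⟩ : ∃ j, k = j + 1 := ⟨k - 1, by omega⟩
    obtain ⟨T, V, _, _, _, _, _, Q, hQ, ρ, hL, hL2, hV, hc, hts⟩ := htower (j + 1) (by omega)
    refine plus_of_rep (by omega) hL hL2 hV hts ?_ P x
    rw [hc, val_plus_even hF]
  · subst hk
    obtain ⟨T, V, _, _, _, _, _, Q, hQ, ρ, hL, hL2, hV, hc, hts⟩ := htower k (by omega)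
    have hnd := nd_prod hQ hQ₁
    have hU := hyp_ts (F := F) 1
    rw [one_smul] at hU
    refine plus_of_rep (by omega) (hL.prod hLH hnd) (Lv2.prod hL hL2 hLH hnd) ?_ (hts.prod hU) ?_ P x
    · rw [Module.finrank_prod, hV, plane_finrank]
      ring
    · rw [Nat.card_prod, hc, card_hyp_sylow S', ← pow_add, val_plus_odd hF]

end main

end Cfsg.Agent.Lib.OmegaSyl.Main
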