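/-
The Sylow `2`-subgroups of `Ω_{2m+1}(q)`, `q` odd: squares are in the derived subgroup.
-/
import Mathlib
import Cfsg.Agent.Lib.OmegaSyl.Main

set_option autoImplicit false
set_option linter.all false

namespace Cfsg.Agent.Lib.OmegaSyl.MainOdd

open Module Subgroup Cfsg
open Cfsg.Agent.Lib.Witt.Quadratic Cfsg.Agent.Lib.Orth.Refl Cfsg.Agent.Lib.Orth.Spin QuadraticMap Multiplicative
open Cfsg.Agent.Lib.Orth.Bridge Cfsg.Agent.Lib.Orth.Forms
open Cfsg.Agent.Lib.OmegaSyl.Real Cfsg.Agent.Lib.OmegaSyl.Inv Cfsg.Agent.Lib.OmegaSyl.Level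
  Cfsg.Agent.Lib.OmegaSyl.Plane Cfsg.Agent.Lib.OmegaSyl.TowerO Cfsg.Agent.Lib.OmegaSyl.Final
  Cfsg.Agent.Lib.OmegaSyl.Main
open Cfsg.Agent.Lib.SpWreath.Tower
open scoped Nat

universe u

variable {F : Type u} [Field F] [Fintype F]

/-- Adding a coordinate. -/
def oddEquivOf {m : ℕ} {V : Type*} [AddCommGroup V] [Module F V] (Θ₁ : (Fin m ⊕ Fin m → F) ≃ₗ[F] V) :
    (Unit ⊕ (Fin m ⊕ Fin m) → F) ≃ₗ[F] V × F where
  toFun v := (Θ₁ (fun i => v (.inr i)), v (.inl ()))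
  invFun p := Sum.elim (fun _ => p.2) (Θ₁.symm p.1)
  map_add' a b := by
    apply Prod.ext
    · exact map_add Θ₁ _ _
    · rfl
  map_smul' c a := by
    apply Prod.ext
    · exact map_smul Θ₁ _ _
    · rfl
  left_inv v := by
    funext i
    rcases i with i | i
    · rfl
    · simp
  right_inv p := by
    apply Prod.ext
    · simp
    · rfl

lemma quadFormOdd_eq {m : ℕ} (v : Unit ⊕ (Fin m ⊕ Fin m) → F) :
    quadFormOdd m F v = v (.inl ()) * v (.inl ()) + quadFormPlus m F (fun i => v (.inr i)) := by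
  simp [quadFormOdd, quadFormPlus, pow_two]

lemma nd_smul {V : Type*} [AddCommGroup V] [Module F V] {Q : QuadraticForm F V} {c : F} (hc : c ≠ 0)
    (hQ : (polarBilin Q).Nondegenerate) : (polarBilin (c • Q)).Nondegenerate := by
  apply nd_of_left
  intro x hx
  apply hQ.1
  intro y
  have h := hx y
  have e : polar (⇑(c • Q)) x y = c • polar (⇑Q) x y := by
    simp only [polar, QuadraticMap.smul_apply, smul_sub]
  rw [e, smul_eq_mul] at h
  exact (mul_eq_zero.1 h).resolve_left hc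

/-- Rearranging the coordinates. -/
def permE (V : Type*) [AddCommGroup V] [Module F V] :
    ((V × (F × F)) × F) ≃ₗ[F] ((V × (F × F)) × F) where
  toFun p := ((p.1.1, (p.2, p.1.2.1)), p.1.2.2)
  invFun p := ((p.1.1, (p.1.2.2, p.2)), p.1.2.1)
  map_add' a b := rfl
  map_smul' c a := rfl
  left_inv p := rfl
  right_inv p := rfl

lemma theta_of {V : Type u} [AddCommGroup V] [Module F V] [FiniteDimensional F V] {Q : QuadraticForm F V} {c : F}
    {k : ℕ} (hnd₂ : (polarBilin (Q.prod (c • planeQ (1 : F)))).Nondegenerate) (hV : finrank F V = 2 * (2 * k))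
    (hts : HasTS (Q.prod (c • planeQ (1 : F))) (2 * k + 1)) :
    ∃ Θ : (Fin (2 * k + 1) ⊕ Fin (2 * k + 1) → F) ≃ₗ[F] V × (F × F),
      ∀ x, (Q.prod (c • planeQ (1 : F))) (Θ x) = quadFormPlus (2 * k + 1) F x := by
  have hd2 : finrank F (V × (F × F)) = 2 * (2 * k + 1) := by
    rw [Module.finrank_prod, hV, plane_finrank]
    ring
  obtain ⟨U, hU, hUm⟩ := hts
  exact Cfsg.Agent.Lib.Orth.HypBasis.exists_equiv_plus_of_ts hnd₂ hd2 hU hUm

theorem main_odd (hF : Odd (Fintype.card F)) (m : ℕ) (hm : 2 ≤ m)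
    (P : Sylow 2 (Omega F (quadFormOdd m F))) (x : (P : Subgroup (Omega F (quadFormOdd m F)))) :
    x ^ 2 ∈ commutator (P : Subgroup (Omega F (quadFormOdd m F))) := by
  classical
  have h2 := two_of_odd hF
  haveI : Fact ((2 : F) ≠ 0) := ⟨h2⟩
  haveI := fact_two
  obtain ⟨ε, hε, hsq, hcard⟩ := exists_base hF
  haveI hfin := finite_iso (planeQ ε)
  obtain ⟨S⟩ : Nonempty (Sylow 2 (isoGroup (planeQ ε))) := inferInstance
  have hQ₀ := plane_nd h2 hε
  have hLb := lv_sylow hε S hQ₀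
  have htower := fun k hk => exists_even (F := F) (tv F) hLb plane_finrank (hcard hfin S) (plane_swap hε hsq)
    (plane_ts hε) k hk
  obtain ⟨k, hk | hk⟩ : ∃ k, m = 2 * k ∨ m = 2 * k + 1 := ⟨m / 2, by omega⟩
  · subst hk
    obtain ⟨T, V, _, _, _, _, _, Q, hQ, ρ, hL, hL2, hV, hc, hts⟩ := htower k (by omega)
    obtain ⟨U, hU, hUm⟩ := hts
    obtain ⟨Θ₁, hΘ₁⟩ := Cfsg.Agent.Lib.Orth.HypBasis.exists_equiv_plus_of_ts hQ hV hU hUm
    refine odd_of_rep (by omega) hL hL2 (one_ne_zero (α := F)) (oddEquivOf Θ₁) ?_ ?_ P x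
    · intro v
      rw [quadFormOdd_eq, ← hΘ₁]
      change Q (Θ₁ (fun i => v (.inr i))) + cForm 1 (v (.inl ())) = _
      rw [cForm_apply]
      ring
    · rw [val_odd hF h2, hc]
      ring
  · subst hk
    obtain ⟨T, V, _, _, _, _, _, Q, hQ, ρ, hL, hL2, hV, hc, hts⟩ := htower k (by omega)
    have hnd := nd_prod hQ hQ₀
    have hQH : (polarBilin ((-ε) • planeQ (1 : F))).Nondegenerate :=
      nd_smul (neg_ne_zero.2 hε) (plane_nd h2 one_ne_zero)
    have hnd₂ := nd_prod hQ hQH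
    obtain ⟨Θ₂, hΘ₂⟩ := theta_of hnd₂ hV (hts.prod (hyp_ts (F := F) (-ε)))
    refine odd_of_rep (by omega) (hL.prod hLb hnd) (Lv2.prod hL hL2 hLb hnd) hε
      ((oddEquivOf Θ₂).trans (permE V)) ?_ ?_ P x
    · intro v
      rw [quadFormOdd_eq, ← hΘ₂]
      change (Q (Θ₂ (fun i => v (.inr i))).1 + planeQ ε (v (.inl ()), (Θ₂ (fun i => v (.inr i))).2.1)) +
        cForm ε (Θ₂ (fun i => v (.inr i))).2.2 = v (.inl ()) * v (.inl ()) +
        (Q (Θ₂ (fun i => v (.inr i))).1 + ((-ε) • planeQ (1 : F)) (Θ₂ (fun i => v (.inr i))).2)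
      generalize Θ₂ (fun i => v (.inr i)) = w
      obtain ⟨u, y, z⟩ := w
      simp only [planeQ_apply, cForm_apply, QuadraticMap.smul_apply, smul_eq_mul]
      ring
    · rw [val_odd hF h2, Nat.card_prod, hc, hcard hfin S, val_fact_odd]
      ring

end Cfsg.Agent.Lib.OmegaSyl.MainOdd
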