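/-
The Sylow `2`-subgroups of `Ω^-_{2m}(q)`, `q` odd: squares are in the derived subgroup.
-/
import Mathlib
import Cfsg.Agent.Lib.OmegaSyl.MainOdd

set_option autoImplicit false
set_option linter.all false

namespace Cfsg.Agent.Lib.OmegaSyl.MainMinus

open Module Subgroup Cfsg
open Cfsg.Agent.Lib.Witt.Quadratic Cfsg.Agent.Lib.Orth.Refl Cfsg.Agent.Lib.Orth.Spin QuadraticMap Multiplicative
open Cfsg.Agent.Lib.Orth.Bridge Cfsg.Agent.Lib.Orth.Forms
open Cfsg.Agent.Lib.OmegaSyl.Real Cfsg.Agent.Lib.OmegaSyl.Inv Cfsg.Agent.Lib.OmegaSyl.Level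
  Cfsg.Agent.Lib.OmegaSyl.Plane Cfsg.Agent.Lib.OmegaSyl.TowerO Cfsg.Agent.Lib.OmegaSyl.Final
  Cfsg.Agent.Lib.OmegaSyl.Main Cfsg.Agent.Lib.OmegaSyl.MainOdd
open Cfsg.Agent.Lib.SpWreath.NPow Cfsg.Agent.Lib.SpWreath.Tower Cfsg.Agent.Lib.SpWreath.GLVal
open Cfsg.Agent.Lib.Classical.QuadOrders
open scoped Nat

universe u

section arith

lemma val_add_odd (q j : ℕ) (hq : Odd q) (hj : j % 2 = 1) :
    padicValNat 2 (q ^ j + 1) = padicValNat 2 (q + 1) := by
  haveI := fact_two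
  have h4 : q % 4 = 1 ∨ q % 4 = 3 := by
    have := Nat.odd_iff.1 hq
    omega
  obtain ⟨l, rfl⟩ : ∃ l, j = 2 * l + 1 := ⟨j / 2, by omega⟩
  rcases h4 with h | h
  · have h3 : q ^ (2 * l + 1) % 4 = 1 := by
      rw [pow_succ, pow_mul, Nat.mul_mod, Nat.pow_mod, Nat.pow_mod q 2, h]
      simp [h]
    have key : ∀ n : ℕ, n % 4 = 1 → padicValNat 2 (n + 1) = 1 := by
      intro n hn
      obtain ⟨c, hc⟩ : ∃ c, n + 1 = 2 * (2 * c + 1) := ⟨n / 4, by omega⟩
      rw [hc, padicValNat.mul (by norm_num) (by omega), padicValNat.self (by norm_num),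
        padicValNat.eq_zero_of_not_dvd (by omega)]
    rw [key _ h3, key _ h]
  · have h40 : (4 : ℤ) ∣ (q : ℤ) - (-1) := by omega
    have h2 : ¬ (2 : ℤ) ∣ (q : ℤ) := by omega
    have hn := Int.two_pow_sub_pow' (x := (q : ℤ)) (y := -1) (2 * l + 1) h40 h2
    have e0 : ((-1 : ℤ)) ^ (2 * l + 1) = -1 := by
      rw [pow_succ, pow_mul]
      simp
    rw [e0] at hn
    have e1 : (q : ℤ) ^ (2 * l + 1) - (-1) = ((q ^ (2 * l + 1) + 1 : ℕ) : ℤ) := by
      push_cast
      ring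
    have e2 : (q : ℤ) - (-1) = ((q + 1 : ℕ) : ℤ) := by
      push_cast
      ring
    rw [e1, e2] at hn
    have e3 : (2 : ℤ) = ((2 : ℕ) : ℤ) := rfl
    rw [e3, Int.natCast_emultiplicity, Int.natCast_emultiplicity, Int.natCast_emultiplicity] at hn
    rw [← padicValNat_eq_emultiplicity (show q ^ (2 * l + 1) + 1 ≠ 0 by omega),
      ← padicValNat_eq_emultiplicity (show q + 1 ≠ 0 by omega),
      ← padicValNat_eq_emultiplicity (show 2 * l + 1 ≠ 0 by omega)] at hn
    have hz : padicValNat 2 (2 * l + 1) = 0 := padicValNat.eq_zero_of_not_dvd (by omega)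
    rw [hz] at hn
    exact_mod_cast hn

lemma val_add_even (q j : ℕ) (hq : Odd q) : padicValNat 2 (q ^ (2 * j) + 1) = 1 := by
  haveI := fact_two
  have h4 : q ^ 2 % 4 = 1 := by
    have h4 : q % 4 = 1 ∨ q % 4 = 3 := by
      have := Nat.odd_iff.1 hq
      omega
    rcases h4 with h | h <;> simp [Nat.pow_mod, h]
  have h3 : q ^ (2 * j) % 4 = 1 := by
    rw [pow_mul, Nat.pow_mod, h4]
    simp
  obtain ⟨c, hc⟩ : ∃ c, q ^ (2 * j) + 1 = 2 * (2 * c + 1) := ⟨q ^ (2 * j) / 4, by omega⟩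
  rw [hc, padicValNat.mul (by norm_num) (by omega), padicValNat.self (by norm_num),
    padicValNat.eq_zero_of_not_dvd (by omega)]

lemma val_M (q k : ℕ) (hq : Odd q) (hq1 : 1 < q) :
    padicValNat 2 (2 * q ^ ((k + 1) * k) * (q ^ (k + 1) + 1) * ∏ i ∈ Finset.range k, (q ^ (2 * (i + 1)) - 1)) =
      1 + padicValNat 2 (q ^ (k + 1) + 1) +
        (k * (padicValNat 2 (q + 1) + padicValNat 2 (q - 1)) + padicValNat 2 k !) := by
  haveI := fact_two
  have hne : ∀ i : ℕ, q ^ (2 * (i + 1)) - 1 ≠ 0 := by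
    intro i
    have : 1 < q ^ (2 * (i + 1)) := Nat.one_lt_pow (by omega) hq1
    omega
  have hne1 : q ^ (k + 1) + 1 ≠ 0 := by omega
  have hq0 : q ≠ 0 := by omega
  rw [padicValNat.mul (mul_ne_zero (mul_ne_zero two_ne_zero (pow_ne_zero _ hq0)) hne1)
      (Finset.prod_ne_zero_iff.2 fun i _ => hne i),
    padicValNat.mul (mul_ne_zero two_ne_zero (pow_ne_zero _ hq0)) hne1,
    padicValNat.mul two_ne_zero (pow_ne_zero _ hq0), padicValNat.self (by norm_num), val_prod q hq hq1,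
    padicValNat.eq_zero_of_not_dvd (p := 2) (n := q ^ ((k + 1) * k)) (fun h =>
      (Nat.not_even_iff_odd.2 hq.pow) (even_iff_two_dvd.2 h))]

end arith

section counts

variable {F : Type u} [Field F] [Fintype F]

theorem val_minus (hF : Odd (Fintype.card F)) {a b : F}
    (hab : ∀ z₁ z₂ : F, z₁ ^ 2 + a * z₁ * z₂ + b * z₂ ^ 2 = 0 → z₁ = 0 ∧ z₂ = 0) (k : ℕ) :
    (Nat.card (isometryGroup F (quadFormMinus k F a b))).factorization 2 =
      1 + padicValNat 2 (Fintype.card F ^ (k + 1) + 1) + (k * tv F + padicValNat 2 k !) := by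
  haveI := fact_two
  have hq : 1 < Fintype.card F := Fintype.one_lt_card
  rw [Nat.factorization_def _ Nat.prime_two]
  rw [card_isometry_minus (F := F) (q := Fintype.card F) Nat.card_eq_fintype_card hab k, val_M _ _ hF hq]
  rfl

variable [Fact ((2 : F) ≠ 0)]

lemma card_plane_nonsq {ν : F} (hn : ¬ IsSquare ν) :
    Nat.card (isoGroup (planeQ ν)) = 2 * (Fintype.card F + 1) := by
  have hab : ∀ z₁ z₂ : F, z₁ ^ 2 + (0 : F) * z₁ * z₂ + (-ν) * z₂ ^ 2 = 0 → z₁ = 0 ∧ z₂ = 0 := by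
    intro z₁ z₂ h
    have hz2 : z₂ = 0 := by
      by_contra hz
      apply hn
      refine ⟨z₁ / z₂, ?_⟩
      field_simp
      linear_combination -h
    subst hz2
    refine ⟨?_, rfl⟩
    simpa using h
  let Θ := minusCoord F
  have hΘ : ∀ v, planeQ ν (Θ v) = minusForm 0 F 0 (-ν) v := by
    intro v
    have e : Θ v = (v (.inr 0), v (.inr 1)) := rfl
    rw [coe_minusForm, planeQ_apply, e]
    simp [quadFormMinus]
    ring
  have h1 : Nat.card (isoGroup (planeQ ν)) = Nat.card (isoGroup (minusForm 0 F 0 (-ν))) :=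
    Nat.card_congr (isoEquiv Θ hΘ).symm.toEquiv
  rw [h1, ← Nat.card_congr (toIso (minusForm 0 F 0 (-ν))).toEquiv]
  have := card_isometry_minus (F := F) (q := Fintype.card F) Nat.card_eq_fintype_card hab 0
  simpa using this

lemma card_nonsq_sylow {ν : F} (hn : ¬ IsSquare ν) [Finite (isoGroup (planeQ ν))] (S : Sylow 2 (isoGroup (planeQ ν))) :
    Nat.card S = 2 ^ (1 + padicValNat 2 (Fintype.card F + 1)) := by
  haveI := fact_two
  rw [Sylow.card_eq_multiplicity, card_plane_nonsq hn, Nat.factorization_def _ Nat.prime_two,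
    padicValNat.mul (by norm_num) (by omega), padicValNat.self (by norm_num)]

/-- Coordinates for `V × plane`. -/
def minusEquivOf {k : ℕ} {V : Type*} [AddCommGroup V] [Module F V] (Θ₁ : (Fin k ⊕ Fin k → F) ≃ₗ[F] V) (c : F) :
    ((Fin k ⊕ Fin k) ⊕ Fin 2 → F) ≃ₗ[F] V × (F × F) where
  toFun v := (Θ₁ (fun i => v (.inl i)), (v (.inr 0) + c * v (.inr 1), v (.inr 1)))
  invFun p := Sum.elim (Θ₁.symm p.1) ![p.2.1 - c * p.2.2, p.2.2]
  map_add' a b := by
    refine Prod.ext (map_add Θ₁ _ _) (Prod.ext ?_ rfl)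
    simp
    ring
  map_smul' r a := by
    refine Prod.ext (map_smul Θ₁ _ _) (Prod.ext ?_ rfl)
    simp
    ring
  left_inv v := by
    funext i
    rcases i with i | i
    · simp
    · fin_cases i
      · simp
      · simp
  right_inv p := by
    refine Prod.ext ?_ (Prod.ext ?_ rfl)
    · simp
    · simp

/-- The minus type form, from a representation. -/
theorem minus_of_rep {k : ℕ} {a b : F} (hab : ∀ z₁ z₂ : F, z₁ ^ 2 + a * z₁ * z₂ + b * z₂ ^ 2 = 0 → z₁ = 0 ∧ z₂ = 0)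
    {T V : Type*} [Group T] [Finite T] [AddCommGroup V] [Module F V] [FiniteDimensional F V]
    {Q : QuadraticForm F V} {hQ : (polarBilin Q).Nondegenerate} {ρ : T →* isoGroup Q}
    (hL : Lv Q hQ ρ) (hL2 : Lv2 Q hQ ρ) (Θ : ((Fin k ⊕ Fin k) ⊕ Fin 2 → F) ≃ₗ[F] V)
    (hΘ : ∀ x, Q (Θ x) = quadFormMinus k F a b x)
    (hc : Nat.card T = 2 ^ (Nat.card (isometryGroup F (quadFormMinus k F a b))).factorization 2)
    (P : Sylow 2 (Omega F (quadFormMinus k F a b))) (x : (P : Subgroup (Omega F (quadFormMinus k F a b)))) :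
    x ^ 2 ∈ commutator (P : Subgroup (Omega F (quadFormMinus k F a b))) := by
  classical
  let ph : T →* A := (J Q hQ).comp ρ
  have hnp : NPow ph := by
    have := hL2.np (MonoidHom.id A)
    rwa [MonoidHom.id_comp] at this
  have hph : Function.Surjective ph := hL.surj
  have hcK := card_ker_surj ph hph
  have hA : Nat.card A = 4 := by
    simp [Nat.card_eq_fintype_card, Nat.card_prod]
  rw [hA, hc] at hcK
  refine final_of_hom (ι := (Fin k ⊕ Fin k) ⊕ Fin 2) (minusForm k F a b) (minusForm_nondeg k hab)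
    (by simp) hQ Θ hΘ (ρ.comp ph.ker.subtype) (hL.inj.comp Subtype.val_injective) (fun k => k.2)
    hnp.sq_mem hcK P x

lemma half_of (a : F) : ∃ c : F, a = 2 * c ∧ a * a / 4 = c * c := by
  have h2 : (2 : F) ≠ 0 := Fact.out
  have h4 : (4 : F) ≠ 0 := by
    have : (4 : F) = 2 * 2 := by norm_num
    rw [this]
    exact mul_ne_zero h2 h2
  refine ⟨a / 2, by field_simp, ?_⟩
  field_simp
  norm_num

lemma theta_minus {V : Type u} [AddCommGroup V] [Module F V] [FiniteDimensional F V] {Q : QuadraticForm F V}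
    {k : ℕ} {a b : F} (hQ : (polarBilin Q).Nondegenerate) (hV : finrank F V = 2 * k) (hts : HasTS Q k) :
    ∃ Θ : ((Fin k ⊕ Fin k) ⊕ Fin 2 → F) ≃ₗ[F] V × (F × F),
      ∀ x, (Q.prod (planeQ (a * a / 4 - b))) (Θ x) = quadFormMinus k F a b x := by
  have h2 : (2 : F) ≠ 0 := Fact.out
  obtain ⟨U, hU, hUm⟩ := hts
  obtain ⟨Θ₁, hΘ₁⟩ := Cfsg.Agent.Lib.Orth.HypBasis.exists_equiv_plus_of_ts hQ hV hU hUm
  obtain ⟨c, rfl, hc⟩ := half_of (F := F) a
  refine ⟨minusEquivOf Θ₁ c, fun x => ?_⟩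
  change Q (Θ₁ (fun i => x (.inl i))) + planeQ (2 * c * (2 * c) / 4 - b) (x (.inr 0) + c * x (.inr 1), x (.inr 1)) = _
  rw [hΘ₁, planeQ_apply, hc]
  simp only [quadFormMinus, quadFormPlus]
  ring

end counts

section main

variable {F : Type u} [Field F] [Fintype F]

set_option maxHeartbeats 1000000 in
theorem main_minus (hF : Odd (Fintype.card F)) (m : ℕ) (hm : 3 ≤ m) (a b : F)
    (hab : ∀ z₁ z₂ : F, z₁ ^ 2 + a * z₁ * z₂ + b * z₂ ^ 2 = 0 → z₁ = 0 ∧ z₂ = 0)
    (P : Sylow 2 (Omega F (quadFormMinus m F a b)))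
    (x : (P : Subgroup (Omega F (quadFormMinus m F a b)))) :
    x ^ 2 ∈ commutator (P : Subgroup (Omega F (quadFormMinus m F a b))) := by
  classical
  have h2 := two_of_odd hF
  haveI : Fact ((2 : F) ≠ 0) := ⟨h2⟩
  haveI := fact_two
  set ν : F := a * a / 4 - b with hν
  have hns : ¬ IsSquare ν := by
    rintro ⟨c, hc⟩
    obtain ⟨d, rfl, hd⟩ := half_of (F := F) a
    rw [hν, hd] at hc
    have := (hab (c - d) 1 (by linear_combination hc * (-1 : F))).2
    exact one_ne_zero this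
  have hν0 : ν ≠ 0 := by
    intro h
    rw [h] at hns
    exact hns IsSquare.zero
  obtain ⟨ε, hε, hsq, hcard⟩ := exists_base hF
  haveI hfin := finite_iso (planeQ ε)
  haveI hfin1 := finite_iso (planeQ (1 : F))
  haveI hfinν := finite_iso (planeQ ν)
  obtain ⟨S⟩ : Nonempty (Sylow 2 (isoGroup (planeQ ε))) := inferInstance
  obtain ⟨S'⟩ : Nonempty (Sylow 2 (isoGroup (planeQ (1 : F)))) := inferInstance
  obtain ⟨Sν⟩ : Nonempty (Sylow 2 (isoGroup (planeQ ν))) := inferInstance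
  have hQ₀ := plane_nd h2 hε
  have hQ₁ := plane_nd h2 (one_ne_zero (α := F))
  have hQν := plane_nd h2 hν0
  have hLb := lv_sylow hε S hQ₀
  have hLH := lv_sylow (one_ne_zero (α := F)) S' hQ₁
  have hLν := lv_sylow hν0 Sν hQν
  have htower := fun k hk => exists_even (F := F) (tv F) hLb plane_finrank (hcard hfin S) (plane_swap hε hsq)
    (plane_ts hε) k hk
  obtain ⟨k, hk | hk⟩ : ∃ k, m = 2 * k ∨ m = 2 * k + 1 := ⟨m / 2, by omega⟩
  · subst hk
    obtain ⟨T, V, _, _, _, _, _, Q, hQ, ρ, hL, hL2, hV, hc, hts⟩ := htower k (by omega)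
    have hnd := nd_prod hQ hQν
    obtain ⟨Θ, hΘ⟩ := theta_minus (a := a) (b := b) hQ hV hts
    refine minus_of_rep hab (hL.prod hLν hnd) (Lv2.prod hL hL2 hLν hnd) Θ hΘ ?_ P x
    rw [val_minus hF hab, Nat.card_prod, hc, card_nonsq_sylow hns Sν, ← pow_add, val_add_odd _ _ hF (by omega)]
    congr 1
    ring
  · subst hk
    obtain ⟨T, V, _, _, _, _, _, Q, hQ, ρ, hL, hL2, hV, hc, hts⟩ := htower k (by omega)
    have hU := hyp_ts (F := F) 1
    rw [one_smul] at hU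
    have hnd₁ := nd_prod hQ hQ₁
    have hnd := nd_prod hnd₁ hQν
    have hL₁ := hL.prod hLH hnd₁
    have hL₂ := Lv2.prod hL hL2 hLH hnd₁
    obtain ⟨Θ, hΘ⟩ := theta_minus (a := a) (b := b) (k := 2 * k + 1) hnd₁
      (by rw [Module.finrank_prod, hV, plane_finrank]; ring) (hts.prod hU)
    refine minus_of_rep hab (hL₁.prod hLν hnd) (Lv2.prod hL₁ hL₂ hLν hnd) Θ hΘ ?_ P x
    have e2 : 2 * k + 1 + 1 = 2 * (k + 1) := by ring
    rw [val_minus hF hab, Nat.card_prod, Nat.card_prod, hc, card_hyp_sylow S', card_nonsq_sylow hns Sν, ← pow_add,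
      ← pow_add, e2, val_add_even _ _ hF, val_fact_odd]
    congr 1
    simp only [tv]
    ring

end main

end Cfsg.Agent.Lib.OmegaSyl.MainMinus
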